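import Mathlib

/-!
# The `𝔪`-transform of a module inside a localization (helper29)

For a linear map `ι : M → M'` (typically a localization `M → M_y`) and an ideal `𝔪`, `T 𝔪 ι` is the
submodule of those `s ∈ M'` such that for every `f ∈ 𝔪` some power of `f` maps `s` into the image of
`ι`.  When `M' = M_y` with `y` a nonzerodivisor on `M`, this is the module of sections of `M` over
the open complement of `V(𝔪)`.

* `T_eq_range`: if `y` is `M`-regular and `M / yM` has no nonzero element killed by `𝔪`, then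
  `T 𝔪 ι = range ι` (Hartogs).
* `star`: the key "Lefschetz" computation for the purity theorem.
-/

set_option autoImplicit false

namespace Groth.Agent.Lib.Helper29.Purity

open Submonoid

variable {A : Type*} [CommRing A]

section Transform

variable {M M' : Type*} [AddCommGroup M] [Module A M] [AddCommGroup M'] [Module A M']

/-- `T 𝔪 ι`: the elements `s` of `M'` such that for every `f ∈ 𝔪` some power of `f` maps `s` into
the image of `ι`. -/
def T (𝔪 : Ideal A) (ι : M →ₗ[A] M') : Submodule A M' where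
  carrier := {s | ∀ f ∈ 𝔪, ∃ e : ℕ, f ^ e • s ∈ LinearMap.range ι}
  add_mem' := by
    intro s t hs ht f hf
    obtain ⟨e₁, h₁⟩ := hs f hf
    obtain ⟨e₂, h₂⟩ := ht f hf
    refine ⟨e₁ + e₂, ?_⟩
    rw [smul_add]
    refine Submodule.add_mem _ ?_ ?_
    · rw [pow_add, mul_comm, mul_smul]
      exact Submodule.smul_mem _ _ h₁
    · rw [pow_add, mul_smul]
      exact Submodule.smul_mem _ _ h₂
  zero_mem' := fun f _ => ⟨0, by simp⟩
  smul_mem' := by
    intro a s hs f hf
    obtain ⟨e, h⟩ := hs f hf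
    exact ⟨e, by rw [smul_comm]; exact Submodule.smul_mem _ _ h⟩

variable {𝔪 : Ideal A} {ι : M →ₗ[A] M'}

lemma mem_T_iff {s : M'} : s ∈ T 𝔪 ι ↔ ∀ f ∈ 𝔪, ∃ e : ℕ, f ^ e • s ∈ LinearMap.range ι := Iff.rfl

lemma range_le_T : LinearMap.range ι ≤ T 𝔪 ι := by
  intro s hs f _
  exact ⟨0, by simpa using hs⟩

lemma map_mem_T {N N' : Type*} [AddCommGroup N] [Module A N] [AddCommGroup N'] [Module A N']
    (κ : N →ₗ[A] N') (θ : M →ₗ[A] N) (θ' : M' →ₗ[A] N') (h : ∀ z, θ' (ι z) = κ (θ z)) {s : M'}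
    (hs : s ∈ T 𝔪 ι) : θ' s ∈ T 𝔪 κ := by
  intro f hf
  obtain ⟨e, z, hz⟩ := hs f hf
  exact ⟨e, θ z, by rw [← h, hz, map_smul]⟩

lemma exists_pow_le (h𝔪 : 𝔪.FG) {s : M'} (hs : s ∈ T 𝔪 ι) :
    ∃ j : ℕ, ∀ a ∈ 𝔪 ^ j, a • s ∈ LinearMap.range ι := by
  let J : Ideal A := (LinearMap.range ι).comap (LinearMap.toSpanSingleton A M' s)
  have hJ : ∀ a, a ∈ J ↔ a • s ∈ LinearMap.range ι := by
    intro a
    rw [Submodule.mem_comap, LinearMap.toSpanSingleton_apply]
  have hrad : 𝔪 ≤ J.radical := by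
    intro f hf
    obtain ⟨e, he⟩ := hs f hf
    exact ⟨e, (hJ _).mpr he⟩
  obtain ⟨j, hj⟩ := Ideal.exists_pow_le_of_le_radical_of_fg hrad h𝔪
  exact ⟨j, fun a ha => (hJ a).mp (hj ha)⟩

/-- **Hartogs**: if `y` is `M`-regular and no nonzero element of `M / yM` is killed by `𝔪`, then
every section over the complement of `V(𝔪)` is global. -/
theorem T_eq_range (y : A) [IsLocalizedModule (powers y) ι] (h𝔪 : 𝔪.FG)
    (hy : IsSMulRegular M y)
    (hsoc : ∀ μ : M, (∀ b ∈ 𝔪, ∃ ν : M, b • μ = y • ν) → ∃ ν : M, μ = y • ν) :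
    T 𝔪 ι = LinearMap.range ι := by
  refine le_antisymm ?_ range_le_T
  have hιinj : Function.Injective ι := by
    rw [← LinearMap.ker_eq_bot, LinearMap.ker_eq_bot']
    intro m hm
    obtain ⟨⟨_, e, rfl⟩, he⟩ := (IsLocalizedModule.eq_zero_iff (powers y) ι).mp hm
    exact (hy.pow e) (show y ^ e • m = y ^ e • 0 by rw [smul_zero]; exact he)
  have hyinj : Function.Injective fun m : M' => y • m :=
    IsLocalizedModule.smul_injective ι (⟨y, mem_powers y⟩ : powers y)
  -- key step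
  have key : ∀ s ∈ T 𝔪 ι, (∃ μ' : M, y • s = ι μ') → s ∈ LinearMap.range ι := by
    intro s hs ⟨μ', hμ'⟩
    obtain ⟨j, hj⟩ := exists_pow_le h𝔪 hs
    induction j with
    | zero =>
      have := hj 1 (by simp)
      simpa using this
    | succ j ih =>
      apply ih
      intro a ha
      set ν : M := a • μ' with hν
      have hb : ∀ b ∈ 𝔪, ∃ ν' : M, b • ν = y • ν' := by
        intro b hb
        have hmem : b * a ∈ 𝔪 ^ (j + 1) := by
          rw [pow_succ']
          exact Ideal.mul_mem_mul hb ha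
        obtain ⟨νb, hνb⟩ := hj _ hmem
        refine ⟨νb, hιinj ?_⟩
        calc ι (b • ν) = b • a • ι μ' := by rw [hν, map_smul, map_smul]
          _ = b • a • y • s := by rw [hμ']
          _ = y • (b * a) • s := by rw [mul_smul, smul_comm a y, smul_comm b y]
          _ = ι (y • νb) := by rw [map_smul, hνb]
      obtain ⟨ν', hν'⟩ := hsoc ν hb
      refine ⟨ν', hyinj ?_⟩
      change y • ι ν' = y • a • s
      rw [← map_smul, ← hν', hν, map_smul, ← hμ', smul_comm]
  intro s hs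
  obtain ⟨⟨μ, ⟨_, e, rfl⟩⟩, ht⟩ := IsLocalizedModule.surj (powers y) ι s
  change y ^ e • s = ι μ at ht
  induction e generalizing s μ with
  | zero =>
    rw [pow_zero, one_smul] at ht
    exact ⟨μ, ht.symm⟩
  | succ e ih =>
    have hs' : y • s ∈ T 𝔪 ι := Submodule.smul_mem _ _ hs
    have : y ^ e • (y • s) = ι μ := by rw [← ht, pow_succ, mul_smul]
    obtain ⟨μ', hμ'⟩ := @ih (y • s) hs' μ this
    exact key s hs ⟨μ', hμ'.symm⟩

end Transform

section Star

variable {M₁ M₂ M₃ L M₁' M₂' M₃' L' : Type*}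
  [AddCommGroup M₁] [Module A M₁] [AddCommGroup M₂] [Module A M₂] [AddCommGroup M₃] [Module A M₃]
  [AddCommGroup L] [Module A L]
  [AddCommGroup M₁'] [Module A M₁'] [AddCommGroup M₂'] [Module A M₂']
  [AddCommGroup M₃'] [Module A M₃'] [AddCommGroup L'] [Module A L']

/-- The key computation: if `a • id` on `M₂` factors through modules `L` satisfying Hartogs, and
`M₁ → M₂ → M₃` is exact with `j ∘ π = a`, then sections of `M₂` over the punctured spectrum map to
global sections of `M₁`. -/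
theorem star (𝔪 : Ideal A) (y : A) (ι₁ : M₁ →ₗ[A] M₁') (ι₂ : M₂ →ₗ[A] M₂') (ι₃ : M₃ →ₗ[A] M₃')
    (ιL : L →ₗ[A] L')
    [IsLocalizedModule (powers y) ι₁] [IsLocalizedModule (powers y) ι₂]
    [IsLocalizedModule (powers y) ι₃] [IsLocalizedModule (powers y) ιL]
    (π : M₂ →ₗ[A] M₁) (π' : M₂ →ₗ[A] M₃) (j : M₁ →ₗ[A] M₂) (a : A)
    (hjπ : ∀ z, j (π z) = a • z) (hπ'j : ∀ w, π' (j w) = 0)
    (hex : ∀ z, π' z = 0 → ∃ w, j w = z) (hj : Function.Injective j)
    (hι₃ : Function.Injective ι₃)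
    {r : ℕ} (α : Fin r → M₂ →ₗ[A] L) (β : Fin r → L →ₗ[A] M₂)
    (hαβ : ∀ z, a • z = ∑ i, β i (α i z))
    (hL : T 𝔪 ιL = LinearMap.range ιL)
    (s : M₂') (hs : s ∈ T 𝔪 ι₂) :
    IsLocalizedModule.map (powers y) ι₂ ι₁ π s ∈ LinearMap.range ι₁ := by
  set S := powers y
  -- step 1 : `a • s` is a global section
  have h1 : (a • LinearMap.id : M₂' →ₗ[A] M₂') =
      ∑ i, (IsLocalizedModule.map S ιL ι₂ (β i)) ∘ₗ (IsLocalizedModule.map S ι₂ ιL (α i)) := by
    apply IsLocalizedModule.linearMap_ext S ι₂ ι₂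
    ext z
    simp only [LinearMap.coe_comp, Function.comp_apply, LinearMap.smul_apply, LinearMap.id_coe,
      id_eq, LinearMap.sum_apply, IsLocalizedModule.map_apply]
    rw [← map_smul, hαβ z, map_sum]
  have h2 : ∃ b : M₂, a • s = ι₂ b := by
    have hl : ∀ i, ∃ l : L, IsLocalizedModule.map S ι₂ ιL (α i) s = ιL l := by
      intro i
      have : IsLocalizedModule.map S ι₂ ιL (α i) s ∈ T 𝔪 ιL :=
        map_mem_T ιL (α i) _ (fun z => IsLocalizedModule.map_apply S ι₂ ιL (α i) z) hs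
      rw [hL] at this
      obtain ⟨l, hl⟩ := this
      exact ⟨l, hl.symm⟩
    choose l hl using hl
    refine ⟨∑ i, β i (l i), ?_⟩
    have := LinearMap.congr_fun h1 s
    simp only [LinearMap.smul_apply, LinearMap.id_coe, id_eq, LinearMap.sum_apply,
      LinearMap.coe_comp, Function.comp_apply] at this
    rw [this, map_sum]
    refine Finset.sum_congr rfl fun i _ => ?_
    rw [hl i, IsLocalizedModule.map_apply]
  obtain ⟨b, hb⟩ := h2
  -- step 2 : `a • s = j (π s)`
  have h3 : (a • LinearMap.id : M₂' →ₗ[A] M₂') =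
      (IsLocalizedModule.map S ι₁ ι₂ j) ∘ₗ (IsLocalizedModule.map S ι₂ ι₁ π) := by
    apply IsLocalizedModule.linearMap_ext S ι₂ ι₂
    ext z
    simp only [LinearMap.coe_comp, Function.comp_apply, LinearMap.smul_apply, LinearMap.id_coe,
      id_eq, IsLocalizedModule.map_apply]
    rw [hjπ, map_smul]
  have h3' : a • s = IsLocalizedModule.map S ι₁ ι₂ j (IsLocalizedModule.map S ι₂ ι₁ π s) := by
    have := LinearMap.congr_fun h3 s
    simpa using this
  -- step 3 : `π' ∘ j = 0`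
  have h4 : (IsLocalizedModule.map S ι₂ ι₃ π') ∘ₗ (IsLocalizedModule.map S ι₁ ι₂ j) = 0 := by
    apply IsLocalizedModule.linearMap_ext S ι₁ ι₃
    ext w
    simp only [LinearMap.coe_comp, Function.comp_apply, IsLocalizedModule.map_apply,
      LinearMap.zero_comp, LinearMap.zero_apply]
    rw [hπ'j, map_zero]
  have h5 : ι₃ (π' b) = 0 := by
    rw [← IsLocalizedModule.map_apply S ι₂ ι₃ π', ← hb, h3']
    exact LinearMap.congr_fun h4 _
  have h6 : π' b = 0 := hι₃ (by rw [h5, map_zero])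
  obtain ⟨w, hw⟩ := hex b h6
  refine ⟨w, ?_⟩
  apply IsLocalizedModule.map_injective S ι₁ ι₂ j hj
  rw [IsLocalizedModule.map_apply, hw, ← hb, h3']

/-- If `a • id` on `M₂` is `∑ β i ∘ α i`, the same holds after localization. -/
theorem smul_eq_sum_map (y : A) (ι₂ : M₂ →ₗ[A] M₂') (ιL : L →ₗ[A] L')
    [IsLocalizedModule (powers y) ι₂] [IsLocalizedModule (powers y) ιL] (a : A)
    {r : ℕ} (α : Fin r → M₂ →ₗ[A] L) (β : Fin r → L →ₗ[A] M₂)
    (hαβ : ∀ z, a • z = ∑ i, β i (α i z)) (s : M₂') :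
    a • s = ∑ i, IsLocalizedModule.map (powers y) ιL ι₂ (β i)
      (IsLocalizedModule.map (powers y) ι₂ ιL (α i) s) := by
  set S := powers y
  have h1 : (a • LinearMap.id : M₂' →ₗ[A] M₂') =
      ∑ i, (IsLocalizedModule.map S ιL ι₂ (β i)) ∘ₗ (IsLocalizedModule.map S ι₂ ιL (α i)) := by
    apply IsLocalizedModule.linearMap_ext S ι₂ ι₂
    ext z
    simp only [LinearMap.coe_comp, Function.comp_apply, LinearMap.smul_apply, LinearMap.id_coe,
      id_eq, LinearMap.sum_apply, IsLocalizedModule.map_apply]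
    rw [← map_smul, hαβ z, map_sum]
  have := LinearMap.congr_fun h1 s
  simpa only [LinearMap.smul_apply, LinearMap.id_coe, id_eq, LinearMap.sum_apply,
    LinearMap.coe_comp, Function.comp_apply] using this

end Star

end Groth.Agent.Lib.Helper29.Purity
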