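import Mathlib
import Groth.Agent.Lib.Helper29.Purity.Transform

/-!
# Lifting maps from a formally étale algebra into sections over a punctured spectrum (helper29)

* `mem_of_formallyEtale` (gluing by uniqueness): if `φ : P → P₀` has nilpotent kernel, `Q ⊆ P` is a
  subalgebra and `ψ : D → P` (with `D` formally étale) is such that `φ ∘ ψ` lands in `φ(Q)`, then `ψ`
  lands in `Q`.
* `locMap_surjective`, `isNilpotent_ker_locMap`: localizing a surjection with nilpotent kernel.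
* `exists_lift_mem_T`: the lifting lemma.
-/

set_option autoImplicit false
set_option linter.unusedSectionVars false

namespace Groth.Agent.Lib.Helper29.Purity

section LemmaL

theorem mem_of_formallyEtale {A D P P₀ : Type*} [CommRing A] [CommRing D] [Algebra A D]
    [Algebra.FormallyEtale A D] [CommRing P] [Algebra A P] [CommRing P₀] [Algebra A P₀]
    (φ : P →ₐ[A] P₀) (hφ : IsNilpotent (RingHom.ker (φ : P →+* P₀))) (Q : Subalgebra A P)
    (ψ : D →ₐ[A] P) (h : ∀ d, ∃ q ∈ Q, φ q = φ (ψ d)) (d : D) : ψ d ∈ Q := by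
  let Q₀ : Subalgebra A P₀ := Q.map φ
  let φQ : Q →ₐ[A] Q₀ := (φ.comp Q.val).codRestrict Q₀ (fun q => ⟨q.1, q.2, rfl⟩)
  have hφQ : Function.Surjective φQ := by
    rintro ⟨_, q, hq, rfl⟩
    exact ⟨⟨q, hq⟩, rfl⟩
  have hker : IsNilpotent (RingHom.ker (φQ : Q →+* Q₀)) := by
    obtain ⟨n, hn⟩ := hφ
    refine ⟨n, ?_⟩
    rw [Ideal.zero_eq_bot, eq_bot_iff]
    have h1 : (RingHom.ker (φQ : Q →+* Q₀)).map (Q.val : Q →+* P) ≤
        RingHom.ker (φ : P →+* P₀) := by
      rw [Ideal.map_le_iff_le_comap]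
      intro q hq
      rw [Ideal.mem_comap, RingHom.mem_ker]
      have := congrArg Subtype.val (RingHom.mem_ker.mp hq)
      exact this
    have h2 : ((RingHom.ker (φQ : Q →+* Q₀)) ^ n).map (Q.val : Q →+* P) ≤ ⊥ := by
      rw [Ideal.map_pow]
      calc _ ≤ (RingHom.ker (φ : P →+* P₀)) ^ n := Ideal.pow_right_mono h1 n
        _ = ⊥ := hn
    intro q hq
    have h3 := h2 (Ideal.mem_map_of_mem _ hq)
    rw [Ideal.mem_bot] at h3 ⊢
    exact Subtype.val_injective h3
  let ψ₀ : D →ₐ[A] Q₀ := (φ.comp ψ).codRestrict Q₀ (fun d => by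
    obtain ⟨q, hq, hqd⟩ := h d
    exact ⟨q, hq, hqd⟩)
  let ψ' : D →ₐ[A] Q := Algebra.FormallySmooth.liftOfSurjective ψ₀ φQ hφQ hker
  have hψ' : φQ.comp ψ' = ψ₀ := Algebra.FormallySmooth.comp_liftOfSurjective ψ₀ φQ hφQ hker
  have heq : Q.val.comp ψ' = ψ := by
    apply Algebra.FormallyUnramified.lift_unique' φ hφ
    ext d
    have := congrArg Subtype.val (AlgHom.congr_fun hψ' d)
    exact this
  rw [← heq]
  exact (ψ' d).2

end LemmaL

section LemmaK

variable {A R R₀ S S₀ : Type*} [CommRing A] [CommRing R] [CommRing R₀] [CommRing S] [CommRing S₀]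
  [Algebra A R] [Algebra A R₀] [Algebra R S] [Algebra R₀ S₀] [Algebra A S] [Algebra A S₀]
  [IsScalarTower A R S] [IsScalarTower A R₀ S₀]
  (ρ : R →+* R₀) (hρA : ∀ a, ρ (algebraMap A R a) = algebraMap A R₀ a)
  (ρS : S →+* S₀) (hρS : ∀ r, ρS (algebraMap R S r) = algebraMap R₀ S₀ (ρ r))
  (y : A) [IsLocalization.Away (algebraMap A R y) S] [IsLocalization.Away (algebraMap A R₀ y) S₀]

include hρA hρS in
theorem locMap_algebraMap (a : A) : ρS (algebraMap A S a) = algebraMap A S₀ a := by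
  rw [IsScalarTower.algebraMap_apply A R S, hρS, hρA, ← IsScalarTower.algebraMap_apply]

include hρA hρS y in
theorem locMap_surjective (hρ : Function.Surjective ρ) : Function.Surjective ρS := by
  intro s₀
  obtain ⟨⟨r₀, ⟨_, n, rfl⟩⟩, h⟩ := IsLocalization.surj (Submonoid.powers (algebraMap A R₀ y)) s₀
  simp only at h
  obtain ⟨r, rfl⟩ := hρ r₀
  refine ⟨IsLocalization.mk' S r (⟨(algebraMap A R y) ^ n, n, rfl⟩ :
    Submonoid.powers (algebraMap A R y)), ?_⟩
  have hu : IsUnit (algebraMap R₀ S₀ ((algebraMap A R₀ y) ^ n)) :=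
    IsLocalization.map_units S₀ (⟨(algebraMap A R₀ y) ^ n, n, rfl⟩ :
      Submonoid.powers (algebraMap A R₀ y))
  have key : algebraMap R₀ S₀ ((algebraMap A R₀ y) ^ n) =
      ρS (algebraMap R S ((algebraMap A R y) ^ n)) := by
    rw [hρS, map_pow ρ, hρA]
  apply hu.mul_left_injective
  change ρS _ * _ = s₀ * _
  rw [h, key, ← map_mul]
  have hsp := IsLocalization.mk'_spec S r (⟨(algebraMap A R y) ^ n, n, rfl⟩ :
    Submonoid.powers (algebraMap A R y))
  rw [hsp, hρS]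

include hρA hρS y in
theorem ker_locMap_le : RingHom.ker ρS ≤ (RingHom.ker ρ).map (algebraMap R S) := by
  intro s hs
  obtain ⟨⟨r, m⟩, rfl⟩ := IsLocalization.mk'_surjective (Submonoid.powers (algebraMap A R y)) s
  simp only at hs ⊢
  have h1 : ρS (algebraMap R S r) = 0 := by
    rw [← IsLocalization.mk'_spec S r m, map_mul, RingHom.mem_ker.mp hs, zero_mul]
  rw [hρS, IsLocalization.map_eq_zero_iff (Submonoid.powers (algebraMap A R₀ y))] at h1
  obtain ⟨⟨_, k, rfl⟩, hk⟩ := h1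
  simp only at hk
  rw [IsLocalization.mk'_mem_map_algebraMap_iff]
  refine ⟨(algebraMap A R y) ^ k, ⟨k, rfl⟩, ?_⟩
  rw [RingHom.mem_ker, map_mul, map_pow, hρA]
  exact hk

include hρA hρS y in
theorem isNilpotent_ker_locMap (hρ' : IsNilpotent (RingHom.ker ρ)) :
    IsNilpotent (RingHom.ker ρS) := by
  obtain ⟨n, hn⟩ := hρ'
  refine ⟨n, ?_⟩
  rw [Ideal.zero_eq_bot, eq_bot_iff]
  calc (RingHom.ker ρS) ^ n ≤ ((RingHom.ker ρ).map (algebraMap R S)) ^ n :=
        Ideal.pow_right_mono (ker_locMap_le ρ hρA ρS hρS y) n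
    _ = ((RingHom.ker ρ) ^ n).map (algebraMap R S) := (Ideal.map_pow _ _ _).symm
    _ = ⊥ := by rw [hn, Ideal.zero_eq_bot, Ideal.map_bot]

end LemmaK

section LiftLemma

variable {A R R₀ S S₀ : Type*} [CommRing A] [CommRing R] [CommRing R₀] [CommRing S] [CommRing S₀]
  [Algebra A R] [Algebra A R₀] [Algebra R S] [Algebra R₀ S₀] [Algebra A S] [Algebra A S₀]
  [IsScalarTower A R S] [IsScalarTower A R₀ S₀]

/-- **Lifting lemma**: a map from a formally étale `A`-algebra `D` into the sections of `R₀` over the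
punctured spectrum lifts (uniquely) to the sections of `R`, where `R → R₀` is a surjection with
nilpotent kernel. -/
theorem exists_lift_mem_T (𝔪 : Ideal A) {D : Type*} [CommRing D] [Algebra A D]
    [Algebra.FormallyEtale A D]
    (ρ : R →+* R₀) (hρA : ∀ a, ρ (algebraMap A R a) = algebraMap A R₀ a)
    (hρ : Function.Surjective ρ) (hρ' : IsNilpotent (RingHom.ker ρ))
    (ρS : S →+* S₀) (hρS : ∀ r, ρS (algebraMap R S r) = algebraMap R₀ S₀ (ρ r))
    (y : A) [IsLocalization.Away (algebraMap A R y) S]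
    [IsLocalization.Away (algebraMap A R₀ y) S₀]
    (ψ₀ : D →ₐ[A] S₀)
    (hψ₀ : ∀ d, ψ₀ d ∈ T 𝔪 (IsScalarTower.toAlgHom A R₀ S₀).toLinearMap) :
    ∃ ψ : D →ₐ[A] S, (∀ d, ρS (ψ d) = ψ₀ d) ∧
      ∀ d, ψ d ∈ T 𝔪 (IsScalarTower.toAlgHom A R S).toLinearMap := by
  have hρSA := locMap_algebraMap ρ hρA ρS hρS
  let ρSₐ : S →ₐ[A] S₀ := { ρS with commutes' := hρSA }
  have hsurj : Function.Surjective ρSₐ := locMap_surjective ρ hρA ρS hρS y hρ
  have hnil0 : IsNilpotent (RingHom.ker ρS) := isNilpotent_ker_locMap ρ hρA ρS hρS y hρ'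
  have hnil : IsNilpotent (RingHom.ker (ρSₐ : S →+* S₀)) := hnil0
  let ψ : D →ₐ[A] S := Algebra.FormallySmooth.liftOfSurjective ψ₀ ρSₐ hsurj hnil
  have hψ : ∀ d, ρS (ψ d) = ψ₀ d :=
    Algebra.FormallySmooth.liftOfSurjective_apply ψ₀ ρSₐ hsurj hnil
  refine ⟨ψ, hψ, ?_⟩
  intro d f hf
  -- localize at `f`
  let P := Localization.Away (algebraMap A S f)
  let P₀ := Localization.Away (algebraMap A S₀ f)
  have hunit : IsUnit (((algebraMap S₀ P₀).comp ρS) (algebraMap A S f)) := by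
    rw [RingHom.comp_apply, hρSA]
    exact IsLocalization.Away.algebraMap_isUnit _
  let ρP : P →+* P₀ := IsLocalization.Away.lift (algebraMap A S f) hunit
  have hρP : ∀ s, ρP (algebraMap S P s) = algebraMap S₀ P₀ (ρS s) :=
    fun s => IsLocalization.Away.lift_eq _ hunit s
  have hρPA := locMap_algebraMap ρS hρSA ρP hρP
  let ρPₐ : P →ₐ[A] P₀ := { ρP with commutes' := hρPA }
  have hnilP0 : IsNilpotent (RingHom.ker ρP) := isNilpotent_ker_locMap ρS hρSA ρP hρP f hnil0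
  have hnilP : IsNilpotent (RingHom.ker (ρPₐ : P →+* P₀)) := hnilP0
  let iₐ : R →ₐ[A] P := (IsScalarTower.toAlgHom A S P).comp (IsScalarTower.toAlgHom A R S)
  have hiₐ : ∀ r, iₐ r = algebraMap S P (algebraMap R S r) := fun _ => rfl
  let Q : Subalgebra A P :=
    { carrier := {p | ∃ (e : ℕ) (r : R), f ^ e • p = iₐ r}
      mul_mem' := by
        rintro p₁ p₂ ⟨e₁, r₁, h₁⟩ ⟨e₂, r₂, h₂⟩
        refine ⟨e₁ + e₂, r₁ * r₂, ?_⟩
        rw [pow_add, ← smul_mul_smul_comm, h₁, h₂, map_mul]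
      add_mem' := by
        rintro p₁ p₂ ⟨e₁, r₁, h₁⟩ ⟨e₂, r₂, h₂⟩
        refine ⟨e₁ + e₂, f ^ e₂ • r₁ + f ^ e₁ • r₂, ?_⟩
        rw [smul_add, map_add, map_smul, map_smul, ← h₁, ← h₂, smul_smul, smul_smul, ← pow_add,
          ← pow_add, add_comm e₂ e₁]
      algebraMap_mem' := by
        intro a
        refine ⟨0, algebraMap A R a, ?_⟩
        rw [pow_zero, one_smul, AlgHom.commutes] }
  let ψP : D →ₐ[A] P := (IsScalarTower.toAlgHom A S P).comp ψ
  have hψP : ∀ d', ψP d' = algebraMap S P (ψ d') := fun _ => rfl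
  have hQ : ∀ d', ∃ q ∈ Q, ρPₐ q = ρPₐ (ψP d') := by
    intro d'
    obtain ⟨e, r₀, hr₀⟩ := hψ₀ d' f hf
    replace hr₀ : algebraMap R₀ S₀ r₀ = f ^ e • ψ₀ d' := hr₀
    obtain ⟨r, rfl⟩ := hρ r₀
    let m : Submonoid.powers (algebraMap A S f) := ⟨(algebraMap A S f) ^ e, e, rfl⟩
    have hq : f ^ e • IsLocalization.mk' P (algebraMap R S r) m = iₐ r := by
      rw [hiₐ, Algebra.smul_def, IsScalarTower.algebraMap_apply A S P, map_pow]
      exact IsLocalization.mk'_spec' P (algebraMap R S r) m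
    refine ⟨IsLocalization.mk' P (algebraMap R S r) m, ⟨e, r, hq⟩, ?_⟩
    change ρP _ = ρP _
    have hu : IsUnit (algebraMap S₀ P₀ (algebraMap A S₀ (f ^ e))) := by
      rw [map_pow, map_pow]
      exact (IsLocalization.Away.algebraMap_isUnit _).pow e
    apply hu.mul_right_injective
    change _ * ρP _ = _ * ρP _
    have h1 : algebraMap S₀ P₀ (algebraMap A S₀ (f ^ e)) =
        ρP (algebraMap S P (algebraMap A S (f ^ e))) := by
      rw [hρP, hρSA]
    rw [h1, ← map_mul, ← map_mul, hψP, ← map_mul, hρP]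
    have h2 : algebraMap S P (algebraMap A S (f ^ e)) *
        IsLocalization.mk' P (algebraMap R S r) m = algebraMap S P (algebraMap R S r) := by
      rw [map_pow]
      exact IsLocalization.mk'_spec' P (algebraMap R S r) m
    rw [h2, hρP, hρS, hr₀, map_mul, hρSA, hψ, Algebra.smul_def]
  have hmem := mem_of_formallyEtale ρPₐ hnilP Q ψP hQ d
  obtain ⟨e, r, her⟩ := hmem
  rw [hψP, hiₐ] at her
  have her' : algebraMap S P (f ^ e • ψ d) = algebraMap S P (algebraMap R S r) := by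
    rw [← her, Algebra.smul_def, Algebra.smul_def, map_mul, ← IsScalarTower.algebraMap_apply A S P]
  obtain ⟨⟨_, k, rfl⟩, hk⟩ := IsLocalization.exists_of_eq
    (M := Submonoid.powers (algebraMap A S f)) her'
  simp only at hk
  refine ⟨k + e, f ^ k • r, ?_⟩
  change algebraMap R S (f ^ k • r) = f ^ (k + e) • ψ d
  rw [Algebra.smul_def, map_mul, ← IsScalarTower.algebraMap_apply A R S, map_pow, ← hk, pow_add,
    mul_smul, Algebra.smul_def (f ^ k), map_pow]

end LiftLemma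

end Groth.Agent.Lib.Helper29.Purity
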