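import Mathlib
import Groth.Agent.Lib.Helper29.DepthRees
import Groth.Agent.Lib.Helper93.Depth
import Groth.Agent.Lib.Helper29.Purity.Transform

/-!
# Depth input for the purity theorem (helper29)

* `eq_zero_of_forall_smul_eq_zero`: depth `≥ 1` ⇒ no nonzero element is killed by `𝔪`.
* `exists_eq_smul_of_depth`: depth `≥ 2`, `y ∈ 𝔪` regular ⇒ `M / yM` has no socle (elementwise).
* `T_eq_range_of_depth`: Hartogs for modules of depth `≥ 2`.
-/

set_option autoImplicit false
set_option linter.unusedSectionVars false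
universe u

namespace Groth.Agent.Lib.Helper29.Purity

open IsLocalRing Submonoid Pointwise

variable {A : Type u} [CommRing A] [IsNoetherianRing A] [IsLocalRing A]

theorem eq_zero_of_forall_smul_eq_zero {Q : Type u} [AddCommGroup Q] [Module A Q] [Module.Finite A Q]
    (hd : 1 ≤ LocCoh.depth A Q) (q : Q) (hq : ∀ b ∈ maximalIdeal A, b • q = 0) : q = 0 := by
  rcases (Groth.Agent.Lib.Helper93.Depth.one_le_idealDepth_iff).mp hd with h | ⟨r, hr, hreg⟩
  · have hbot : (⊤ : Submodule A Q) = ⊥ := by
      apply Submodule.eq_bot_of_le_smul_of_le_jacobson_bot (maximalIdeal A) ⊤ Module.Finite.fg_top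
      · rw [h]
      · exact IsLocalRing.maximalIdeal_le_jacobson _
    have : q ∈ (⊤ : Submodule A Q) := trivial
    rw [hbot] at this
    exact (Submodule.mem_bot A).mp this
  · exact hreg (show r • q = r • 0 by rw [smul_zero]; exact hq r hr)

theorem exists_eq_smul_of_depth {M : Type u} [AddCommGroup M] [Module A M] [Module.Finite A M]
    (y : A) (hym : y ∈ maximalIdeal A) (hy : IsSMulRegular M y) (hd : 2 ≤ LocCoh.depth A M)
    (μ : M) (hμ : ∀ b ∈ maximalIdeal A, ∃ ν : M, b • μ = y • ν) : ∃ ν : M, μ = y • ν := by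
  have h1 := Groth.Agent.Lib.Helper29.depth_quotSMulTop_add_one (A := A) M hym hy
  have h2 : 1 ≤ LocCoh.depth A (QuotSMulTop y M) := by
    rw [← h1] at hd
    have : (1 : ℕ∞) + 1 ≤ LocCoh.depth A (QuotSMulTop y M) + 1 := by
      have e : (1 : ℕ∞) + 1 = 2 := by norm_num
      rw [e]; exact hd
    exact (ENat.add_le_add_iff_right (by norm_num)).mp this
  have h3 : (Submodule.mkQ (y • (⊤ : Submodule A M)) μ : QuotSMulTop y M) = 0 := by
    apply eq_zero_of_forall_smul_eq_zero h2
    intro b hb
    obtain ⟨ν, hν⟩ := hμ b hb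
    rw [← map_smul, hν, Submodule.mkQ_apply, Submodule.Quotient.mk_eq_zero]
    exact Submodule.smul_mem_pointwise_smul ν y ⊤ trivial
  rw [Submodule.mkQ_apply, Submodule.Quotient.mk_eq_zero] at h3
  obtain ⟨ν, -, hν⟩ := (Submodule.mem_smul_pointwise_iff_exists _ _ _).mp h3
  exact ⟨ν, hν.symm⟩

/-- **Hartogs**: for a finite module of depth `≥ 2` and a regular element `y ∈ 𝔪`, every section of
`M` over the punctured spectrum (inside `M_y`) is global. -/
theorem T_eq_range_of_depth {M : Type u} [AddCommGroup M] [Module A M] [Module.Finite A M]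
    {M' : Type*} [AddCommGroup M'] [Module A M'] (ι : M →ₗ[A] M') (y : A)
    [IsLocalizedModule (powers y) ι] (hym : y ∈ maximalIdeal A) (hy : IsSMulRegular M y)
    (hd : 2 ≤ LocCoh.depth A M) : T (maximalIdeal A) ι = LinearMap.range ι :=
  T_eq_range y (IsNoetherian.noetherian _) hy (exists_eq_smul_of_depth y hym hy hd)

end Groth.Agent.Lib.Helper29.Purity
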