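import Mathlib

/-!
# Multiplication by a power of `f` factors through a free module when `M_f` is flat (helper29)

* `exists_factor_pow`: `M` finite over Noetherian `A`, `M_f` flat over `A` ⇒ there are `N`, linear
  forms `α i : M → A` and elements `b i : M` with `f ^ N • z = ∑ i, α i z • b i`.
* `flat_away_of_formallyEtale`: a finite `A`-algebra `B` (with `A` Noetherian) whose localization
  `B_g` is formally étale over `A` has `B_g` flat over `A`.
-/

set_option autoImplicit false
universe u v w

namespace Groth.Agent.Lib.Helper29.Purity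

open Submonoid

theorem exists_factor_pow {A : Type u} [CommRing A] [IsNoetherianRing A] {M : Type v}
    [AddCommGroup M] [Module A M] [Module.Finite A M] (f : A) {M' : Type w} [AddCommGroup M']
    [Module A M'] (ι : M →ₗ[A] M') [IsLocalizedModule (powers f) ι] (hflat : Module.Flat A M') :
    ∃ (N r : ℕ) (α : Fin r → M →ₗ[A] A) (b : Fin r → M), ∀ z, f ^ N • z = ∑ i, α i z • b i := by
  set S := powers f with hS
  let Af := Localization S
  let Mf := LocalizedModule S M
  have hfl1 : Module.Flat A Mf := Module.Flat.of_linearEquiv (IsLocalizedModule.iso S ι)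
  have hfl2 : Module.Flat Af Mf := (Module.flat_iff_of_isLocalization Af S Mf).mpr hfl1
  have hfp : Module.FinitePresentation A M := Module.finitePresentation_of_finite A M
  have hproj : Module.Projective Af Mf := Module.Flat.projective_of_finitePresentation
  obtain ⟨r, γ, hγ⟩ := Module.Finite.exists_fin' A M
  let γf : LocalizedModule S (Fin r → A) →ₗ[Af] Mf := LocalizedModule.map S γ
  have hγf : Function.Surjective γf := LocalizedModule.map_surjective S γ hγ
  obtain ⟨σ, hσ⟩ := Module.projective_lifting_property γf LinearMap.id hγf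
  let g : M →ₗ[A] LocalizedModule S (Fin r → A) :=
    (σ.restrictScalars A) ∘ₗ (LocalizedModule.mkLinearMap S M)
  obtain ⟨α₀, s, hα₀⟩ := Module.FinitePresentation.exists_lift_of_isLocalizedModule S
    (LocalizedModule.mkLinearMap S (Fin r → A)) g
  have hcomp : (LocalizedModule.mkLinearMap S M) ∘ₗ (γ ∘ₗ α₀) =
      (LocalizedModule.mkLinearMap S M) ∘ₗ ((s : A) • (LinearMap.id : M →ₗ[A] M)) := by
    ext z
    have h1 := LinearMap.congr_fun hα₀ z
    simp only [LinearMap.coe_comp, Function.comp_apply, LinearMap.smul_apply] at h1
    have h2 : γf (LocalizedModule.mkLinearMap S (Fin r → A) (α₀ z)) =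
        LocalizedModule.mkLinearMap S M (γ (α₀ z)) := by
      simp only [LocalizedModule.mkLinearMap_apply]
      exact LocalizedModule.map_mk S γ _ _
    have h3 : γf (σ (LocalizedModule.mkLinearMap S M z)) = LocalizedModule.mkLinearMap S M z :=
      LinearMap.congr_fun hσ _
    simp only [LinearMap.coe_comp, Function.comp_apply, LinearMap.smul_apply, LinearMap.id_coe,
      id_eq]
    rw [← h2, h1]
    change γf (s • σ (LocalizedModule.mkLinearMap S M z)) = _
    rw [Submonoid.smul_def, ← algebraMap_smul Af (s : A), map_smul, h3, algebraMap_smul, map_smul]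
  obtain ⟨s', hs'⟩ := Module.Finite.exists_smul_of_comp_eq_of_isLocalizedModule S
    (LocalizedModule.mkLinearMap S M) _ _ hcomp
  obtain ⟨N, hN⟩ : ∃ N : ℕ, f ^ N = (s' : A) * (s : A) := by
    obtain ⟨_, e₁, rfl⟩ := s'
    obtain ⟨_, e₂, rfl⟩ := s
    exact ⟨e₁ + e₂, pow_add f e₁ e₂⟩
  classical
  refine ⟨N, r, fun i => (LinearMap.proj i) ∘ₗ α₀,
    fun i => (s' : A) • γ (fun j => if i = j then 1 else 0), fun z => ?_⟩
  have h4 := LinearMap.congr_fun hs' z
  simp only [LinearMap.smul_apply, LinearMap.coe_comp, Function.comp_apply, LinearMap.id_coe,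
    id_eq, Submonoid.smul_def] at h4
  rw [hN, mul_smul, ← h4, LinearMap.pi_apply_eq_sum_univ γ (α₀ z), Finset.smul_sum]
  refine Finset.sum_congr rfl fun i _ => ?_
  simp only [LinearMap.coe_comp, Function.comp_apply, LinearMap.coe_proj, Function.eval]
  rw [smul_comm]

theorem flat_away_of_formallyEtale {A B : Type u} [CommRing A] [IsNoetherianRing A] [CommRing B]
    [Algebra A B] [Module.Finite A B] (g : B) [Algebra.FormallyEtale A (Localization.Away g)] :
    Module.Flat A (Localization.Away g) := by
  have h1 : Algebra.FiniteType A B := inferInstance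
  have h2 : Algebra.FinitePresentation A B := Algebra.FinitePresentation.of_finiteType.mp h1
  have h3 : Algebra.FinitePresentation B (Localization.Away g) :=
    IsLocalization.Away.finitePresentation g
  have h4 : Algebra.FinitePresentation A (Localization.Away g) :=
    Algebra.FinitePresentation.trans A B (Localization.Away g)
  have h5 : Algebra.Etale A (Localization.Away g) := ⟨inferInstance, h4⟩
  infer_instance

end Groth.Agent.Lib.Helper29.Purity
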