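import Mathlib
import Groth.Agent.Lib.Helper29.Purity.Transform

/-!
# Infinitesimal thickenings `B / x^k B` and the Lefschetz computation (helper29)

For an `A`-algebra `B` and `x y : A`: `Rk B x k = B ⧸ x^k B`, its localization `Sk B x y k` at `y`,
the transition maps, and `thick_star`: if `x^N • id_B` factors through a free `A`-module then a
section of `B / x^(N+1) B` over the punctured spectrum restricts to a global section of `B / x B`.
-/

set_option autoImplicit false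
set_option linter.unusedSectionVars false
universe u

namespace Groth.Agent.Lib.Helper29.Purity

open Submonoid

variable {A : Type u} [CommRing A] (B : Type u) [CommRing B] [Algebra A B] (x y : A)

/-- the ideal `x^k B` -/
abbrev Ik (k : ℕ) : Ideal B := (Ideal.span {x ^ k}).map (algebraMap A B)

variable {B x} in
lemma mem_Ik {k : ℕ} {b : B} : b ∈ Ik B x k ↔ ∃ c : B, b = algebraMap A B x ^ k * c := by
  rw [Ik, Ideal.map_span, Set.image_singleton, Ideal.mem_span_singleton', map_pow]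
  constructor
  · rintro ⟨c, rfl⟩
    exact ⟨c, mul_comm _ _⟩
  · rintro ⟨c, rfl⟩
    exact ⟨c, mul_comm _ _⟩

lemma Ik_le {k l : ℕ} (h : l ≤ k) : Ik B x k ≤ Ik B x l := by
  intro b hb
  obtain ⟨c, rfl⟩ := mem_Ik.mp hb
  refine mem_Ik.mpr ⟨algebraMap A B x ^ (k - l) * c, ?_⟩
  rw [← mul_assoc, ← pow_add, Nat.add_sub_cancel' h]

/-- `B ⧸ x^k B` -/
abbrev Rk (k : ℕ) : Type u := B ⧸ Ik B x k

variable {B x} in
lemma mk_eq_zero_iff {k : ℕ} {b : B} :
    (Ideal.Quotient.mk (Ik B x k) b = 0) ↔ ∃ c : B, b = algebraMap A B x ^ k * c := by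
  rw [Ideal.Quotient.eq_zero_iff_mem, mem_Ik]

variable {B x} in
lemma smul_mk (a : A) {k : ℕ} (b : B) :
    a • (Ideal.Quotient.mk (Ik B x k) b) = Ideal.Quotient.mk (Ik B x k) (algebraMap A B a * b) := by
  rw [Algebra.smul_def, ← Ideal.Quotient.mk_algebraMap, ← map_mul]

variable {B x} in
lemma isSMulRegular_B_pow (hx : IsSMulRegular B x) (k : ℕ) {b : B}
    (h : algebraMap A B x ^ k * b = 0) : b = 0 := by
  have := hx.pow k
  apply this
  change x ^ k • b = x ^ k • (0 : B)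
  rw [smul_zero, Algebra.smul_def, map_pow, h]

theorem isSMulRegular_Rk (hx : IsSMulRegular B x) (hy : IsSMulRegular (Rk B x 1) y) (k : ℕ) :
    IsSMulRegular (Rk B x k) y := by
  induction k with
  | zero =>
    intro m₁ m₂ _
    obtain ⟨b₁, rfl⟩ := Ideal.Quotient.mk_surjective m₁
    obtain ⟨b₂, rfl⟩ := Ideal.Quotient.mk_surjective m₂
    rw [Ideal.Quotient.eq, mem_Ik]
    exact ⟨b₁ - b₂, by rw [pow_zero, one_mul]⟩
  | succ k ih =>
    rw [isSMulRegular_iff_right_eq_zero_of_smul]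
    intro m hm
    obtain ⟨b, rfl⟩ := Ideal.Quotient.mk_surjective m
    rw [smul_mk, mk_eq_zero_iff] at hm
    obtain ⟨c, hc⟩ := hm
    -- b ∈ x^k B
    have h1 : Ideal.Quotient.mk (Ik B x k) b = 0 := by
      apply (isSMulRegular_iff_right_eq_zero_of_smul.mp ih)
      rw [smul_mk, mk_eq_zero_iff, hc]
      exact ⟨algebraMap A B x * c, by rw [pow_succ, mul_assoc]⟩
    obtain ⟨w, rfl⟩ := mk_eq_zero_iff.mp h1
    -- y w = x c
    have h2 : algebraMap A B y * w = algebraMap A B x * c := by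
      have : algebraMap A B x ^ k * (algebraMap A B y * w - algebraMap A B x * c) = 0 := by
        rw [mul_sub, sub_eq_zero, ← mul_assoc, mul_comm _ (algebraMap A B y), mul_assoc, hc,
          pow_succ, mul_assoc]
      exact sub_eq_zero.mp (isSMulRegular_B_pow hx k this)
    have h3 : Ideal.Quotient.mk (Ik B x 1) w = 0 := by
      apply (isSMulRegular_iff_right_eq_zero_of_smul.mp hy)
      rw [smul_mk, mk_eq_zero_iff, h2]
      exact ⟨c, by rw [pow_one]⟩
    obtain ⟨w', rfl⟩ := mk_eq_zero_iff.mp h3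
    rw [mk_eq_zero_iff]
    exact ⟨w', by rw [pow_one, pow_succ, mul_assoc]⟩

/-! ### Transition maps -/

/-- the projection `B/x^k → B/x^l` as an `A`-linear map -/
noncomputable def πlin {k l : ℕ} (h : l ≤ k) : Rk B x k →ₗ[A] Rk B x l :=
  (Ideal.Quotient.factorₐ A (Ik_le B x h)).toLinearMap

variable {B x} in
@[simp] lemma πlin_mk {k l : ℕ} (h : l ≤ k) (b : B) :
    πlin B x h (Ideal.Quotient.mk (Ik B x k) b) = Ideal.Quotient.mk (Ik B x l) b := rfl

/-- multiplication by `x^N` : `B/x → B/x^(N+1)` -/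
noncomputable def jmap (N : ℕ) : Rk B x 1 →ₗ[A] Rk B x (N + 1) :=
  (Submodule.mapQ (Ik B x 1) (Ik B x (N + 1)) (LinearMap.mulLeft B (algebraMap A B x ^ N)) (by
    intro b hb
    rw [Submodule.mem_comap, LinearMap.mulLeft_apply]
    obtain ⟨c, rfl⟩ := mem_Ik.mp hb
    exact mem_Ik.mpr ⟨c, by rw [pow_one, pow_succ, mul_assoc]⟩)).restrictScalars A

variable {B x} in
@[simp] lemma jmap_mk (N : ℕ) (b : B) :
    jmap B x N (Ideal.Quotient.mk (Ik B x 1) b) =
      Ideal.Quotient.mk (Ik B x (N + 1)) (algebraMap A B x ^ N * b) := rfl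

lemma jmap_πlin (N : ℕ) (z : Rk B x (N + 1)) :
    jmap B x N (πlin B x (Nat.le_add_left 1 N) z) = x ^ N • z := by
  obtain ⟨b, rfl⟩ := Ideal.Quotient.mk_surjective z
  rw [πlin_mk, jmap_mk, smul_mk, map_pow]

lemma πlin_jmap (N : ℕ) (w : Rk B x 1) :
    πlin B x (Nat.le_succ N) (jmap B x N w) = 0 := by
  obtain ⟨b, rfl⟩ := Ideal.Quotient.mk_surjective w
  rw [jmap_mk, πlin_mk, mk_eq_zero_iff]
  exact ⟨b, rfl⟩

lemma exists_jmap_eq (N : ℕ) (z : Rk B x (N + 1)) (hz : πlin B x (Nat.le_succ N) z = 0) :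
    ∃ w, jmap B x N w = z := by
  obtain ⟨b, rfl⟩ := Ideal.Quotient.mk_surjective z
  rw [πlin_mk, mk_eq_zero_iff] at hz
  obtain ⟨c, rfl⟩ := hz
  exact ⟨Ideal.Quotient.mk _ c, jmap_mk N c⟩

lemma jmap_injective (hx : IsSMulRegular B x) (N : ℕ) : Function.Injective (jmap B x N) := by
  rw [← LinearMap.ker_eq_bot, LinearMap.ker_eq_bot']
  intro w hw
  obtain ⟨b, rfl⟩ := Ideal.Quotient.mk_surjective w
  rw [jmap_mk, mk_eq_zero_iff] at hw
  obtain ⟨c, hc⟩ := hw
  have : algebraMap A B x ^ N * (b - algebraMap A B x * c) = 0 := by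
    rw [mul_sub, hc, pow_succ, mul_assoc, sub_self]
  have h2 := sub_eq_zero.mp (isSMulRegular_B_pow hx N this)
  rw [mk_eq_zero_iff]
  exact ⟨c, by rw [pow_one, h2]⟩

/-! ### Factoring through `A / x^k` -/

/-- the map `B/x^k → A/x^k` induced by a linear form `α : B → A` -/
noncomputable def αbar (k : ℕ) (α : B →ₗ[A] A) : Rk B x k →ₗ[A] A ⧸ Ideal.span {x ^ k} :=
  (Submodule.liftQ ((Ik B x k).restrictScalars A) ((Submodule.mkQ (Ideal.span {x ^ k})) ∘ₗ α) (by
    intro b hb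
    rw [Submodule.restrictScalars_mem] at hb
    obtain ⟨c, rfl⟩ := mem_Ik.mp hb
    rw [LinearMap.mem_ker, LinearMap.comp_apply, Submodule.mkQ_apply,
      Submodule.Quotient.mk_eq_zero, ← map_pow, ← Algebra.smul_def, map_smul, smul_eq_mul]
    exact Ideal.mul_mem_right _ _ (Ideal.mem_span_singleton_self _))) ∘ₗ
  (Submodule.Quotient.restrictScalarsEquiv A (Ik B x k)).symm.toLinearMap

variable {B x} in
lemma αbar_mk (k : ℕ) (α : B →ₗ[A] A) (b : B) :
    αbar B x k α (Ideal.Quotient.mk (Ik B x k) b) = Ideal.Quotient.mk (Ideal.span {x ^ k}) (α b) :=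
  rfl

/-- the map `A/x^k → B/x^k`, `a ↦ a b` -/
noncomputable def βbar (k : ℕ) (b : B) : A ⧸ Ideal.span {x ^ k} →ₗ[A] Rk B x k :=
  Submodule.liftQ (Ideal.span {x ^ k})
    (LinearMap.toSpanSingleton A (Rk B x k) (Ideal.Quotient.mk (Ik B x k) b)) (by
    intro a ha
    obtain ⟨a', rfl⟩ := Ideal.mem_span_singleton'.mp ha
    rw [LinearMap.mem_ker, LinearMap.toSpanSingleton_apply, smul_mk, mk_eq_zero_iff]
    exact ⟨algebraMap A B a' * b, by rw [map_mul, map_pow]; ring⟩)

variable {B x} in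
lemma βbar_mk (k : ℕ) (b : B) (a : A) :
    βbar B x k b (Ideal.Quotient.mk (Ideal.span {x ^ k}) a) =
      a • Ideal.Quotient.mk (Ik B x k) b := rfl

lemma sum_βbar_αbar (a : A) (k : ℕ) {r : ℕ} (α : Fin r → B →ₗ[A] A) (b : Fin r → B)
    (hαb : ∀ z : B, a • z = ∑ i, α i z • b i) (z : Rk B x k) :
    a • z = ∑ i, βbar B x k (b i) (αbar B x k (α i) z) := by
  obtain ⟨c, rfl⟩ := Ideal.Quotient.mk_surjective z
  simp only [αbar_mk, βbar_mk]
  rw [smul_mk, ← Algebra.smul_def, hαb c, map_sum]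
  refine Finset.sum_congr rfl fun i _ => ?_
  rw [smul_mk, Algebra.smul_def]

/-! ### Localizations at `y` -/

/-- `(B/x^k)_y` -/
abbrev Sk (k : ℕ) : Type u := Localization.Away (algebraMap A (Rk B x k) y)

/-- the localization map `B/x^k → (B/x^k)_y`, as an `A`-linear map -/
noncomputable abbrev ιk (k : ℕ) : Rk B x k →ₗ[A] Sk B x y k :=
  (IsScalarTower.toAlgHom A (Rk B x k) (Sk B x y k)).toLinearMap

instance (k : ℕ) : IsLocalizedModule (powers y) (ιk B x y k) := by
  rw [isLocalizedModule_iff_isLocalization, Algebra.algebraMapSubmonoid_powers]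
  infer_instance

/-- `(A/x^k)_y` -/
abbrev LS (k : ℕ) : Type u := Localization.Away (algebraMap A (A ⧸ Ideal.span {x ^ k}) y)

/-- the localization map `A/x^k → (A/x^k)_y`, as an `A`-linear map -/
noncomputable abbrev ιL (k : ℕ) : (A ⧸ Ideal.span {x ^ k}) →ₗ[A] LS x y k :=
  (IsScalarTower.toAlgHom A (A ⧸ Ideal.span {x ^ k}) (LS x y k)).toLinearMap

instance (k : ℕ) : IsLocalizedModule (powers y) (ιL x y k) := by
  rw [isLocalizedModule_iff_isLocalization, Algebra.algebraMapSubmonoid_powers]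
  infer_instance

lemma ιk_injective (hx : IsSMulRegular B x) (hy : IsSMulRegular (Rk B x 1) y) (k : ℕ) :
    Function.Injective (ιk B x y k) := by
  rw [← LinearMap.ker_eq_bot, LinearMap.ker_eq_bot']
  intro m hm
  obtain ⟨⟨_, e, rfl⟩, he⟩ := (IsLocalizedModule.eq_zero_iff (powers y) (ιk B x y k)).mp hm
  exact ((isSMulRegular_Rk B x y hx hy k).pow e)
    (show y ^ e • m = y ^ e • 0 by rw [smul_zero]; exact he)

/-- the ring map `(B/x^(N+1))_y → (B/x)_y` -/
noncomputable def ρS (N : ℕ) : Sk B x y (N + 1) →+* Sk B x y 1 :=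
  IsLocalization.Away.lift (algebraMap A (Rk B x (N + 1)) y)
    (g := (algebraMap (Rk B x 1) (Sk B x y 1)).comp
      (Ideal.Quotient.factor (Ik_le B x (Nat.le_add_left 1 N))))
    (by
      rw [RingHom.comp_apply]
      have : Ideal.Quotient.factor (Ik_le B x (Nat.le_add_left 1 N))
          (algebraMap A (Rk B x (N + 1)) y) = algebraMap A (Rk B x 1) y := rfl
      rw [this]
      exact IsLocalization.Away.algebraMap_isUnit _)

lemma ρS_algebraMap (N : ℕ) (z : Rk B x (N + 1)) :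
    ρS B x y N (algebraMap (Rk B x (N + 1)) (Sk B x y (N + 1)) z) =
      algebraMap (Rk B x 1) (Sk B x y 1)
        (Ideal.Quotient.factor (Ik_le B x (Nat.le_add_left 1 N)) z) :=
  IsLocalization.Away.lift_eq _ _ z

lemma factor_algebraMap {k l : ℕ} (h : l ≤ k) (a : A) :
    Ideal.Quotient.factor (Ik_le B x h) (algebraMap A (Rk B x k) a) = algebraMap A (Rk B x l) a :=
  rfl

/-- `ρS` as an `A`-linear map. -/
noncomputable def ρSlin (N : ℕ) : Sk B x y (N + 1) →ₗ[A] Sk B x y 1 :=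
  { (ρS B x y N : Sk B x y (N + 1) →+ Sk B x y 1) with
    map_smul' := fun a s => by
      change ρS B x y N (a • s) = a • ρS B x y N s
      rw [Algebra.smul_def, Algebra.smul_def, map_mul,
        IsScalarTower.algebraMap_apply A (Rk B x (N + 1)) (Sk B x y (N + 1)), ρS_algebraMap,
        factor_algebraMap B x (Nat.le_add_left 1 N), ← IsScalarTower.algebraMap_apply] }

lemma ρSlin_eq (N : ℕ) :
    ρSlin B x y N =
      IsLocalizedModule.map (powers y) (ιk B x y (N + 1)) (ιk B x y 1)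
        (πlin B x (Nat.le_add_left 1 N)) := by
  refine IsLocalizedModule.linearMap_ext (powers y) (ιk B x y (N + 1)) (ιk B x y 1) ?_
  refine LinearMap.ext fun z => ?_
  rw [LinearMap.comp_apply, LinearMap.comp_apply, IsLocalizedModule.map_apply]
  exact ρS_algebraMap B x y N z

/-- **The Lefschetz computation.** -/
theorem thick_star (𝔪 : Ideal A) (hx : IsSMulRegular B x) (hy : IsSMulRegular (Rk B x 1) y)
    (N : ℕ) {r : ℕ} (α : Fin r → B →ₗ[A] A) (b : Fin r → B)
    (hαb : ∀ z : B, x ^ N • z = ∑ i, α i z • b i)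
    (hL : T 𝔪 (ιL x y (N + 1)) = LinearMap.range (ιL x y (N + 1)))
    (s : Sk B x y (N + 1)) (hs : s ∈ T 𝔪 (ιk B x y (N + 1))) :
    ρS B x y N s ∈ LinearMap.range (ιk B x y 1) := by
  have key := star 𝔪 y (ιk B x y 1) (ιk B x y (N + 1)) (ιk B x y N) (ιL x y (N + 1))
    (πlin B x (Nat.le_add_left 1 N)) (πlin B x (Nat.le_succ N)) (jmap B x N) (x ^ N)
    (jmap_πlin B x N) (πlin_jmap B x N) (exists_jmap_eq B x N) (jmap_injective B x hx N)
    (ιk_injective B x y hx hy N)
    (fun i => αbar B x (N + 1) (α i)) (fun i => βbar B x (N + 1) (b i))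
    (sum_βbar_αbar B x (x ^ N) (N + 1) α b hαb) hL s hs
  rw [← ρSlin_eq] at key
  exact key

end Groth.Agent.Lib.Helper29.Purity
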