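import Mathlib
import Groth.Agent.Lib.Helper29.Purity.Thick
import Groth.Agent.Lib.Helper29.Purity.DepthAux
import Groth.Agent.Lib.Helper29.Purity.FactorFree

/-!
# The ring of sections of `B/xB` over the punctured spectrum (helper29)

`C0 B x y 𝔪 ⊆ (B/xB)_y` is the `A/x`-subalgebra of sections of `B/xB` over the complement of `V(𝔪)`.
We show it is finite over `A/x`, of depth `≥ 2`, and étale over the punctured spectrum of `A/x`.
-/

set_option autoImplicit false
set_option linter.unusedSectionVars false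
universe u

namespace Groth.Agent.Lib.Helper29.Purity

open Submonoid IsLocalRing Pointwise

variable {A : Type u} [CommRing A] (B : Type u) [CommRing B] [Algebra A B] (x y : A)
  (𝔪 : Ideal A)

/-- sections of `B/xB` over the complement of `V(𝔪)`, as an `A/x`-subalgebra of `(B/xB)_y` -/
def C0 : Subalgebra (A ⧸ Ideal.span {x ^ 1}) (Sk B x y 1) where
  carrier := T 𝔪 (ιk B x y 1)
  mul_mem' := by
    intro s t hs ht f hf
    obtain ⟨e₁, r₁, h₁⟩ := hs f hf
    obtain ⟨e₂, r₂, h₂⟩ := ht f hf
    refine ⟨e₁ + e₂, r₁ * r₂, ?_⟩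
    change algebraMap (Rk B x 1) (Sk B x y 1) (r₁ * r₂) = _
    rw [pow_add, ← smul_mul_smul_comm, ← h₁, ← h₂, map_mul]
    rfl
  add_mem' := fun hs ht => (T 𝔪 (ιk B x y 1)).add_mem hs ht
  algebraMap_mem' := by
    intro a
    apply range_le_T
    exact ⟨algebraMap _ (Rk B x 1) a,
      (IsScalarTower.algebraMap_apply (A ⧸ Ideal.span {x ^ 1}) (Rk B x 1) (Sk B x y 1) a).symm⟩

variable {B x y 𝔪} in
lemma mem_C0 {s : Sk B x y 1} : s ∈ C0 B x y 𝔪 ↔ s ∈ T 𝔪 (ιk B x y 1) := Iff.rfl

lemma algebraMap_mem_C0 (z : Rk B x 1) : algebraMap (Rk B x 1) (Sk B x y 1) z ∈ C0 B x y 𝔪 :=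
  range_le_T ⟨z, rfl⟩

/-- the canonical map `B → C0` -/
noncomputable def toC0 : B →+* C0 B x y 𝔪 :=
  RingHom.codRestrict ((algebraMap (Rk B x 1) (Sk B x y 1)).comp (Ideal.Quotient.mk (Ik B x 1)))
    (C0 B x y 𝔪) (fun _ => algebraMap_mem_C0 B x y 𝔪 _)

variable {B x y 𝔪} in
@[simp] lemma toC0_val (b : B) :
    (toC0 B x y 𝔪 b : Sk B x y 1) =
      algebraMap (Rk B x 1) (Sk B x y 1) (Ideal.Quotient.mk (Ik B x 1) b) := rfl

lemma smul_val_A (a : A) (c : C0 B x y 𝔪) :
    ((Ideal.Quotient.mk (Ideal.span {x ^ 1}) a • c : C0 B x y 𝔪) : Sk B x y 1) =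
      a • (c : Sk B x y 1) := by
  rw [Subalgebra.coe_smul]
  exact (IsScalarTower.algebraMap_smul (A ⧸ Ideal.span {x ^ 1}) a (c : Sk B x y 1))

/-- `C0` is a finite module, provided `y^M • id_B` factors through a free module and Hartogs holds
for `A/x`. -/
theorem finite_C0 [IsNoetherianRing A] (M : ℕ) {r : ℕ} (α : Fin r → B →ₗ[A] A) (b : Fin r → B)
    (hαb : ∀ z : B, y ^ M • z = ∑ i, α i z • b i)
    (hL : T 𝔪 (ιL x y 1) = LinearMap.range (ιL x y 1)) :
    Module.Finite (A ⧸ Ideal.span {x ^ 1}) (C0 B x y 𝔪) := by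
  let T0 : Submodule A (Sk B x y 1) := T 𝔪 (ιk B x y 1)
  let Φ : Sk B x y 1 →ₗ[A] (Fin r → LS x y 1) :=
    LinearMap.pi (fun i => IsLocalizedModule.map (powers y) (ιk B x y 1) (ιL x y 1)
      (αbar B x 1 (α i)))
  let W : Submodule A (Fin r → LS x y 1) := LinearMap.range ((ιL x y 1).compLeft (Fin r))
  have hΦ : ∀ s ∈ T0, Φ s ∈ W := by
    intro s hs
    have hl : ∀ i, ∃ l, ιL x y 1 l = IsLocalizedModule.map (powers y) (ιk B x y 1) (ιL x y 1)
        (αbar B x 1 (α i)) s := by
      intro i
      have : IsLocalizedModule.map (powers y) (ιk B x y 1) (ιL x y 1) (αbar B x 1 (α i)) s ∈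
          T 𝔪 (ιL x y 1) :=
        map_mem_T (ιL x y 1) (αbar B x 1 (α i)) _
          (fun z => IsLocalizedModule.map_apply (powers y) (ιk B x y 1) (ιL x y 1) _ z) hs
      rwa [hL] at this
    choose l hl using hl
    refine ⟨l, ?_⟩
    ext i
    exact hl i
  have hinj : ∀ s ∈ T0, Φ s = 0 → s = 0 := by
    intro s _ hs0
    have h1 := smul_eq_sum_map y (ιk B x y 1) (ιL x y 1) (y ^ M)
      (fun i => αbar B x 1 (α i)) (fun i => βbar B x 1 (b i))
      (sum_βbar_αbar B x (y ^ M) 1 α b hαb) s
    have h2 : ∀ i, IsLocalizedModule.map (powers y) (ιk B x y 1) (ιL x y 1)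
        (αbar B x 1 (α i)) s = 0 := fun i => congrFun hs0 i
    simp only [h2, map_zero, Finset.sum_const_zero] at h1
    exact IsLocalizedModule.smul_injective (ιk B x y 1) (⟨y ^ M, M, rfl⟩ : powers y)
      (show y ^ M • s = y ^ M • 0 by rw [smul_zero]; exact h1)
  have hWfin : Module.Finite A W := inferInstance
  have hWnoeth : IsNoetherian A W := isNoetherian_of_isNoetherianRing_of_finite A W
  let g : T0 →ₗ[A] W := LinearMap.codRestrict W (Φ ∘ₗ T0.subtype) (fun s => hΦ s.1 s.2)
  have hg : Function.Injective g := by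
    rw [← LinearMap.ker_eq_bot, LinearMap.ker_eq_bot']
    intro s hs
    have : Φ s.1 = 0 := congrArg Subtype.val hs
    exact Subtype.ext (hinj s.1 s.2 this)
  have hT0 : Module.Finite A T0 := Module.Finite.of_injective g hg
  -- transfer to `C0`
  let e : T0 →ₗ[A] C0 B x y 𝔪 :=
    { toFun := fun s => ⟨s.1, s.2⟩
      map_add' := fun _ _ => rfl
      map_smul' := fun a s => by
        apply Subtype.ext
        change a • s.1 = ((a • (⟨s.1, s.2⟩ : C0 B x y 𝔪) : C0 B x y 𝔪) : Sk B x y 1)
        rw [← IsScalarTower.algebraMap_smul (A ⧸ Ideal.span {x ^ 1}) a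
          (⟨s.1, s.2⟩ : C0 B x y 𝔪)]
        exact (smul_val_A B x y 𝔪 a ⟨s.1, s.2⟩).symm }
  have he : Function.Surjective e := fun c => ⟨⟨c.1, c.2⟩, rfl⟩
  have hfinA : Module.Finite A (C0 B x y 𝔪) := Module.Finite.of_surjective e he
  exact Module.Finite.of_restrictScalars_finite A _ _

section Depth

variable [IsNoetherianRing A] [IsLocalRing A] [IsLocalRing (A ⧸ Ideal.span {x ^ 1})]

lemma mk_mem_maximalIdeal_iff (f : A) :
    Ideal.Quotient.mk (Ideal.span {x ^ 1}) f ∈ maximalIdeal (A ⧸ Ideal.span {x ^ 1}) ↔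
      f ∈ maximalIdeal A := by
  have hloc : IsLocalHom (Ideal.Quotient.mk (Ideal.span {x ^ 1})) :=
    IsLocalHom.of_surjective _ Ideal.Quotient.mk_surjective
  rw [← IsLocalRing.maximalIdeal_comap (Ideal.Quotient.mk (Ideal.span {x ^ 1}))]
  rfl

/-- `C0` has depth at least two over `A/x`. -/
theorem two_le_depth_C0 (hy𝔪 : y ∈ maximalIdeal A)
    [Module.Finite (A ⧸ Ideal.span {x ^ 1}) (C0 B x y (maximalIdeal A))] :
    2 ≤ LocCoh.depth (A ⧸ Ideal.span {x ^ 1}) (C0 B x y (maximalIdeal A)) := by
  set A₀ := A ⧸ Ideal.span {x ^ 1} with hA₀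
  set C := C0 B x y (maximalIdeal A) with hC
  let y₀ : A₀ := Ideal.Quotient.mk _ y
  have hy₀ : y₀ ∈ maximalIdeal A₀ := (mk_mem_maximalIdeal_iff x y).mpr hy𝔪
  have hyinj : Function.Injective (fun s : Sk B x y 1 => y • s) :=
    IsLocalizedModule.smul_injective (ιk B x y 1) (⟨y, mem_powers y⟩ : powers y)
  have hysurj : Function.Surjective (fun s : Sk B x y 1 => y • s) := by
    have h1 := IsLocalizedModule.map_units (ιk B x y 1) (⟨y, mem_powers y⟩ : powers y)
    exact ((Module.End.isUnit_iff _).mp h1).surjective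
  have hreg1 : IsSMulRegular C y₀ := by
    intro c₁ c₂ h
    apply Subtype.ext
    apply hyinj
    have h2 := congrArg Subtype.val h
    change ((y₀ • c₁ : C) : Sk B x y 1) = ((y₀ • c₂ : C) : Sk B x y 1) at h2
    rw [smul_val_A, smul_val_A] at h2
    exact h2
  have hex : ∃ z ∈ maximalIdeal A₀, IsSMulRegular (QuotSMulTop y₀ C) z := by
    by_contra hcon
    push Not at hcon
    have hass := (Groth.Agent.Lib.Helper29.forall_not_isSMulRegular_iff_mem_associatedPrimes A₀
      (QuotSMulTop y₀ C)).mp hcon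
    obtain ⟨-, q, hq⟩ := (isAssociatedPrime_iff).mp hass
    obtain ⟨c, rfl⟩ := Submodule.mkQ_surjective _ q
    have hkill : ∀ f ∈ maximalIdeal A, ∃ c' : C, (Ideal.Quotient.mk _ f : A₀) • c = y₀ • c' := by
      intro f hf
      have h1 : (Ideal.Quotient.mk _ f : A₀) ∈ Submodule.colon (⊥ : Submodule A₀ (QuotSMulTop y₀ C))
          {Submodule.mkQ _ c} := by
        rw [← hq]; exact (mk_mem_maximalIdeal_iff x f).mpr hf
      rw [Submodule.mem_colon_singleton, Submodule.mem_bot, ← map_smul, Submodule.mkQ_apply,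
        Submodule.Quotient.mk_eq_zero] at h1
      obtain ⟨c', -, hc'⟩ := (Submodule.mem_smul_pointwise_iff_exists _ _ _).mp h1
      exact ⟨c', hc'.symm⟩
    -- the element `c / y`
    obtain ⟨s, hs⟩ := hysurj (c : Sk B x y 1)
    have hsT : s ∈ T (maximalIdeal A) (ιk B x y 1) := by
      intro f hf
      obtain ⟨c', hc'⟩ := hkill f hf
      have h2 := congrArg Subtype.val hc'
      change ((_ • c : C) : Sk B x y 1) = ((y₀ • c' : C) : Sk B x y 1) at h2
      rw [smul_val_A, smul_val_A] at h2
      have h3 : f • s = (c' : Sk B x y 1) := by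
        apply hyinj
        change y • f • s = y • (c' : Sk B x y 1)
        rw [← h2, smul_comm, ← hs]
      obtain ⟨e, he⟩ := c'.2 f hf
      refine ⟨e + 1, ?_⟩
      rw [pow_succ, mul_smul, h3]
      exact he
    have hc0 : c = y₀ • (⟨s, hsT⟩ : C) := by
      apply Subtype.ext
      rw [smul_val_A]
      exact hs.symm
    have hq0 : Submodule.mkQ (y₀ • (⊤ : Submodule A₀ C)) c = 0 := by
      rw [Submodule.mkQ_apply, Submodule.Quotient.mk_eq_zero, hc0]
      exact Submodule.smul_mem_pointwise_smul _ y₀ ⊤ trivial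
    have htop : maximalIdeal A₀ = ⊤ := by
      rw [hq, hq0]
      ext a
      simp [Submodule.mem_colon_singleton]
    exact (maximalIdeal.isMaximal A₀).ne_top htop
  obtain ⟨z, hz, hzreg⟩ := hex
  have hwr : RingTheory.Sequence.IsWeaklyRegular C [y₀, z] := by
    rw [RingTheory.Sequence.isWeaklyRegular_cons_iff]
    exact ⟨hreg1, (RingTheory.Sequence.isWeaklyRegular_singleton_iff _ z).mpr hzreg⟩
  have := Groth.Agent.Lib.Helper93.Depth.length_le_idealDepth (I := maximalIdeal A₀) hwr (by
    intro r hr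
    simp only [List.mem_cons, List.not_mem_nil, or_false] at hr
    rcases hr with rfl | rfl
    · exact hy₀
    · exact hz)
  exact_mod_cast this

end Depth

section Etale

open TensorProduct

/-- Étale transfer: a quotient of a formally étale `A`-algebra `E` by `I E` is formally étale over
`A / I`. -/
theorem formallyEtale_of_surjective_of_ker {A : Type u} [CommRing A] (I : Ideal A) {E : Type u}
    [CommRing E] [Algebra A E] [Algebra.FormallyEtale A E] {X : Type u} [CommRing X]
    [Algebra (A ⧸ I) X] (φ : E →+* X)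
    (hφA : ∀ a, φ (algebraMap A E a) = algebraMap (A ⧸ I) X (Ideal.Quotient.mk I a))
    (hφ : Function.Surjective φ) (hker : RingHom.ker φ = I.map (algebraMap A E)) :
    Algebra.FormallyEtale (A ⧸ I) X := by
  have h1 : Algebra.FormallyEtale (A ⧸ I) (E ⧸ I.map (algebraMap A E)) :=
    Algebra.FormallyEtale.of_equiv (Algebra.TensorProduct.quotIdealMapEquivQuotTensor E I).symm
  let e : (E ⧸ I.map (algebraMap A E)) ≃+* X :=
    (Ideal.quotEquivOfEq hker.symm).trans (RingHom.quotientKerEquivOfSurjective hφ)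
  have he : ∀ z : E, e (Ideal.Quotient.mk _ z) = φ z := fun z => rfl
  let e' : (E ⧸ I.map (algebraMap A E)) ≃ₐ[A ⧸ I] X :=
    AlgEquiv.ofRingEquiv (f := e) (by
      intro a
      obtain ⟨a, rfl⟩ := Ideal.Quotient.mk_surjective a
      rw [Ideal.Quotient.algebraMap_quotient_map_quotient, he, hφA])
  exact Algebra.FormallyEtale.of_equiv e'

variable {B x y 𝔪} in
lemma toC0_algebraMap (a : A) :
    toC0 B x y 𝔪 (algebraMap A B a) =
      algebraMap (A ⧸ Ideal.span {x ^ 1}) (C0 B x y 𝔪) (Ideal.Quotient.mk _ a) := by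
  apply Subtype.ext
  rw [toC0_val]
  change _ = algebraMap (A ⧸ Ideal.span {x ^ 1}) (Sk B x y 1) (Ideal.Quotient.mk _ a)
  rw [IsScalarTower.algebraMap_apply (A ⧸ Ideal.span {x ^ 1}) (Rk B x 1) (Sk B x y 1),
    Ideal.Quotient.algebraMap_quotient_map_quotient]

/-- General form: if `τ : B → C` is "an isomorphism away from `f`" with kernel `I B`, then `C_f` is
formally étale over `A / I` as soon as `B_f` is formally étale over `A`. -/
theorem formallyEtale_away_of_toC {A : Type u} [CommRing A] (I : Ideal A) {B : Type u} [CommRing B]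
    [Algebra A B] {C : Type u} [CommRing C] [Algebra (A ⧸ I) C] (τ : B →+* C)
    (hτA : ∀ a, τ (algebraMap A B a) = algebraMap (A ⧸ I) C (Ideal.Quotient.mk I a))
    (hτker : ∀ b, τ b = 0 → b ∈ I.map (algebraMap A B))
    (f : A) (hτf : ∀ c : C, ∃ (e : ℕ) (b : B), τ b = (τ (algebraMap A B f)) ^ e * c)
    [Algebra.FormallyEtale A (Localization.Away (algebraMap A B f))] :
    Algebra.FormallyEtale (A ⧸ I)
      (Localization.Away (algebraMap (A ⧸ I) C (Ideal.Quotient.mk I f))) := by
  set f₀ : C := algebraMap (A ⧸ I) C (Ideal.Quotient.mk I f) with hf₀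
  have hτf₀ : τ (algebraMap A B f) = f₀ := hτA f
  let g : B →+* Localization.Away f₀ := (algebraMap C (Localization.Away f₀)).comp τ
  have hgf : g (algebraMap A B f) = algebraMap C (Localization.Away f₀) f₀ := by
    change algebraMap C (Localization.Away f₀) (τ (algebraMap A B f)) = _
    rw [hτf₀]
  have hg : IsUnit (g (algebraMap A B f)) := by
    rw [hgf]
    exact IsLocalization.Away.algebraMap_isUnit _
  let φ : Localization.Away (algebraMap A B f) →+* Localization.Away f₀ :=
    IsLocalization.Away.lift (algebraMap A B f) hg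
  have hφ : ∀ b, φ (algebraMap B (Localization.Away (algebraMap A B f)) b) = g b :=
    fun b => IsLocalization.Away.lift_eq _ hg b
  have hφA : ∀ a, φ (algebraMap A (Localization.Away (algebraMap A B f)) a) =
      algebraMap (A ⧸ I) (Localization.Away f₀) (Ideal.Quotient.mk I a) := by
    intro a
    rw [IsScalarTower.algebraMap_apply A B (Localization.Away (algebraMap A B f)), hφ]
    change algebraMap C (Localization.Away f₀) (τ (algebraMap A B a)) = _
    rw [hτA, ← IsScalarTower.algebraMap_apply]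
  have hφpow : ∀ k : ℕ, φ (algebraMap B (Localization.Away (algebraMap A B f))
      (algebraMap A B f ^ k)) = algebraMap C (Localization.Away f₀) (f₀ ^ k) := by
    intro k
    rw [hφ, map_pow, hgf, map_pow]
  apply formallyEtale_of_surjective_of_ker I φ hφA
  · -- surjectivity
    intro w
    obtain ⟨⟨c, ⟨_, n, rfl⟩⟩, hw⟩ := IsLocalization.surj (Submonoid.powers f₀) w
    simp only at hw
    obtain ⟨e, b, hcb⟩ := hτf c
    rw [hτf₀] at hcb
    refine ⟨IsLocalization.mk' (Localization.Away (algebraMap A B f)) b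
      (⟨algebraMap A B f ^ (n + e), n + e, rfl⟩ : Submonoid.powers (algebraMap A B f)), ?_⟩
    have hu : IsUnit (algebraMap C (Localization.Away f₀) (f₀ ^ (n + e))) := by
      rw [map_pow]
      exact (IsLocalization.Away.algebraMap_isUnit _).pow _
    apply hu.mul_left_injective
    change φ _ * algebraMap C (Localization.Away f₀) (f₀ ^ (n + e)) =
      w * algebraMap C (Localization.Away f₀) (f₀ ^ (n + e))
    conv_lhs => rw [← hφpow, ← map_mul]
    have hsp := IsLocalization.mk'_spec (Localization.Away (algebraMap A B f)) b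
      (⟨algebraMap A B f ^ (n + e), n + e, rfl⟩ : Submonoid.powers (algebraMap A B f))
    rw [hsp, hφ]
    change algebraMap C (Localization.Away f₀) (τ b) = _
    calc algebraMap C (Localization.Away f₀) (τ b)
        = algebraMap C (Localization.Away f₀) (f₀ ^ e * c) := by rw [hcb]
      _ = algebraMap C (Localization.Away f₀) (f₀ ^ e) * algebraMap C (Localization.Away f₀) c :=
          map_mul _ _ _
      _ = algebraMap C (Localization.Away f₀) (f₀ ^ e) *
            (w * algebraMap C (Localization.Away f₀) (f₀ ^ n)) := by rw [hw]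
      _ = w * (algebraMap C (Localization.Away f₀) (f₀ ^ n) *
            algebraMap C (Localization.Away f₀) (f₀ ^ e)) := by ring
      _ = w * algebraMap C (Localization.Away f₀) (f₀ ^ (n + e)) := by rw [← map_mul, ← pow_add]
  · -- kernel
    apply le_antisymm
    · intro p hp
      obtain ⟨⟨b, s⟩, rfl⟩ := IsLocalization.mk'_surjective
        (Submonoid.powers (algebraMap A B f)) p
      simp only at hp ⊢
      have h1 : φ (algebraMap B (Localization.Away (algebraMap A B f)) b) = 0 := by
        rw [← IsLocalization.mk'_spec (Localization.Away (algebraMap A B f)) b s, map_mul,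
          RingHom.mem_ker.mp hp, zero_mul]
      rw [hφ] at h1
      change algebraMap C (Localization.Away f₀) (τ b) = 0 at h1
      rw [IsLocalization.map_eq_zero_iff (Submonoid.powers f₀)] at h1
      obtain ⟨⟨_, k, rfl⟩, hk⟩ := h1
      simp only at hk
      have h2 : τ (algebraMap A B f ^ k * b) = 0 := by
        rw [map_mul, map_pow, hτf₀]
        exact hk
      have h4 := hτker _ h2
      have h5 : IsLocalization.mk' (Localization.Away (algebraMap A B f)) b s ∈
          (I.map (algebraMap A B)).map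
            (algebraMap B (Localization.Away (algebraMap A B f))) := by
        rw [IsLocalization.mk'_mem_map_algebraMap_iff (Submonoid.powers (algebraMap A B f))]
        exact ⟨algebraMap A B f ^ k, ⟨k, rfl⟩, h4⟩
      rw [Ideal.map_map, ← IsScalarTower.algebraMap_eq] at h5
      exact h5
    · rw [Ideal.map_le_iff_le_comap]
      intro a ha
      rw [Ideal.mem_comap, RingHom.mem_ker, hφA, Ideal.Quotient.eq_zero_iff_mem.mpr ha, map_zero]

/-- `C0` is étale over the punctured spectrum of `A/x`. -/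
theorem formallyEtale_away_C0 (hx : IsSMulRegular B x) (hy : IsSMulRegular (Rk B x 1) y) (f : A)
    (hf : f ∈ 𝔪) [Algebra.FormallyEtale A (Localization.Away (algebraMap A B f))] :
    Algebra.FormallyEtale (A ⧸ Ideal.span {x ^ 1})
      (Localization.Away (algebraMap (A ⧸ Ideal.span {x ^ 1}) (C0 B x y 𝔪)
        (Ideal.Quotient.mk _ f))) := by
  apply formallyEtale_away_of_toC (Ideal.span {x ^ 1}) (toC0 B x y 𝔪) toC0_algebraMap
  · intro b hb
    have h3 := congrArg Subtype.val hb
    rw [toC0_val] at h3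
    have h4 : Ideal.Quotient.mk (Ik B x 1) b = 0 := by
      apply ιk_injective B x y hx hy 1
      rw [map_zero]
      exact h3
    exact Ideal.Quotient.eq_zero_iff_mem.mp h4
  · intro c
    obtain ⟨e, z, hz⟩ := c.2 f hf
    obtain ⟨b, rfl⟩ := Ideal.Quotient.mk_surjective z
    refine ⟨e, b, ?_⟩
    apply Subtype.ext
    rw [toC0_val, toC0_algebraMap]
    have h1 : (((algebraMap (A ⧸ Ideal.span {x ^ 1}) (C0 B x y 𝔪) (Ideal.Quotient.mk _ f)) ^ e * c :
        C0 B x y 𝔪) : Sk B x y 1) = f ^ e • (c : Sk B x y 1) := by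
      rw [← map_pow, ← Algebra.smul_def, ← map_pow, smul_val_A]
    rw [h1]
    exact hz

end Etale

end Groth.Agent.Lib.Helper29.Purity
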