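import Mathlib
import Groth.Agent.Lib.Helper29.Purity.Sections
import Groth.Agent.Lib.Helper93.DepthHom
import Groth.Agent.Lib.Helper73.RegularNormal
import Groth.Agent.Lib.Helper85.RegularLocal
import Groth.Agent.Lib.Helper2.DiscrEtale

/-!
# Preparations for the purity induction (helper29)

Equivalences `QuotSMulTop a B ≃ B ⧸ a B`, depth bookkeeping, the choice of the parameters `x, y`,
Hartogs for `A / x^k`, and the conversions between the "prime" and "basic open" forms of
"étale on the punctured spectrum".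
-/

set_option autoImplicit false
set_option linter.unusedSectionVars false
universe u

namespace Groth.Agent.Lib.Helper29.Purity

open Submonoid IsLocalRing Pointwise

section Equivs

variable {A : Type u} [CommRing A] (B : Type u) [CommRing B] [Algebra A B]

/-- `B / a B` in its two incarnations. -/
noncomputable def quotSMulTopEquiv (a : A) :
    QuotSMulTop a B ≃ₗ[A] (B ⧸ (Ideal.span {a}).map (algebraMap A B)) :=
  (Submodule.quotEquivOfEq (a • (⊤ : Submodule A B))
    (((Ideal.span {a}).map (algebraMap A B)).restrictScalars A) (by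
      ext b
      rw [Submodule.mem_smul_pointwise_iff_exists, Submodule.restrictScalars_mem, Ideal.map_span,
        Set.image_singleton, Ideal.mem_span_singleton']
      constructor
      · rintro ⟨c, -, rfl⟩
        exact ⟨c, by rw [Algebra.smul_def, mul_comm]⟩
      · rintro ⟨c, rfl⟩
        exact ⟨c, trivial, by rw [Algebra.smul_def, mul_comm]⟩)).trans
  (Submodule.Quotient.restrictScalarsEquiv A _)

/-- `A / a A` in its two incarnations. -/
noncomputable def quotSMulTopEquivSelf (a : A) : QuotSMulTop a A ≃ₗ[A] (A ⧸ Ideal.span {a}) :=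
  Submodule.quotEquivOfEq (a • (⊤ : Submodule A A)) (Ideal.span {a}) (by
    ext b
    rw [Submodule.mem_smul_pointwise_iff_exists, Ideal.mem_span_singleton']
    constructor
    · rintro ⟨c, -, rfl⟩
      exact ⟨c, by rw [smul_eq_mul, mul_comm]⟩
    · rintro ⟨c, rfl⟩
      exact ⟨c, trivial, by rw [smul_eq_mul, mul_comm]⟩)

/-- `Rk A x k = A / x^k`. -/
noncomputable def RkSelfEquiv (x : A) (k : ℕ) : Rk A x k ≃ₗ[A] (A ⧸ Ideal.span {x ^ k}) :=
  Submodule.quotEquivOfEq (Ik A x k) (Ideal.span {x ^ k}) (by
    rw [Ik, Algebra.algebraMap_self, Ideal.map_id])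

end Equivs

section Depth

variable {A : Type u} [CommRing A] [IsNoetherianRing A] [IsLocalRing A]

theorem le_depth_of_add_one_le {M : Type u} [AddCommGroup M] [Module A M] [Module.Finite A M]
    {a : A} (ha : a ∈ maximalIdeal A) (hreg : IsSMulRegular M a) (k : ℕ)
    (h : ((k + 1 : ℕ) : ℕ∞) ≤ LocCoh.depth A M) : (k : ℕ∞) ≤ LocCoh.depth A (QuotSMulTop a M) := by
  have h1 := Groth.Agent.Lib.Helper29.depth_quotSMulTop_add_one (A := A) M ha hreg
  rw [← h1] at h
  have : (k : ℕ∞) + 1 ≤ LocCoh.depth A (QuotSMulTop a M) + 1 := by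
    rw [Nat.cast_add, Nat.cast_one] at h
    exact h
  exact (ENat.add_le_add_iff_right (by norm_num)).mp this

theorem depth_congr {M M' : Type u} [AddCommGroup M] [Module A M] [AddCommGroup M'] [Module A M']
    (e : M ≃ₗ[A] M') : LocCoh.depth A M = LocCoh.depth A M' :=
  Groth.Agent.Lib.Helper93.Depth.idealDepth_congr (I := maximalIdeal A) e

variable (B : Type u) [CommRing B] [Algebra A B] [Module.Finite A B]

theorem one_le_depth_Rk {x : A} (hx𝔪 : x ∈ maximalIdeal A) (hx : IsSMulRegular B x)
    (hd : 2 ≤ LocCoh.depth A B) : 1 ≤ LocCoh.depth A (Rk B x 1) := by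
  have h1 := le_depth_of_add_one_le (M := B) (a := x ^ 1) (by rwa [pow_one]) (by rwa [pow_one]) 1
    (by norm_num; exact hd)
  rw [depth_congr (quotSMulTopEquiv B (x ^ 1))] at h1
  exact_mod_cast h1

end Depth

section Regular

variable (A : Type u) [CommRing A] [IsRegularLocalRing A]

theorem depth_self_eq : LocCoh.depth A A = ((maximalIdeal A).spanFinrank : ℕ∞) := by
  have h1 := Groth.Agent.Lib.Helper73.RegularNormal.depth_self_of_isRegularLocalRing A
  have h2 := IsRegularLocalRing.spanFinrank_maximalIdeal (R := A)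
  rw [← h2] at h1
  exact_mod_cast h1

variable {A}

theorem isSMulRegular_self_of_ne_zero {a : A} (ha : a ≠ 0) : IsSMulRegular A a := by
  have := Groth.Agent.Lib.Helper85.isDomain_of_isRegularLocalRing A
  intro b c h
  exact mul_left_cancel₀ ha h

theorem two_le_depth_quot_pow (hn : 3 ≤ (maximalIdeal A).spanFinrank) {x : A}
    (hx𝔪 : x ∈ maximalIdeal A) (hx0 : x ≠ 0) (k : ℕ) :
    2 ≤ LocCoh.depth A (A ⧸ Ideal.span {x ^ (k + 1)}) := by
  have := Groth.Agent.Lib.Helper85.isDomain_of_isRegularLocalRing A
  have h1 := le_depth_of_add_one_le (M := A) (a := x ^ (k + 1))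
    (Ideal.pow_mem_of_mem _ hx𝔪 _ (Nat.succ_pos k))
    (isSMulRegular_self_of_ne_zero (pow_ne_zero _ hx0)) 2 (by
      rw [depth_self_eq]
      exact_mod_cast hn)
  rw [depth_congr (quotSMulTopEquivSelf (x ^ (k + 1)))] at h1
  exact_mod_cast h1

/-- regularity of `y` on all `A / x^k` from regularity on `A / x`. -/
theorem isSMulRegular_quot_pow {x y : A} (hx0 : x ≠ 0)
    (hy : IsSMulRegular (A ⧸ Ideal.span {x ^ 1}) y) (k : ℕ) :
    IsSMulRegular (A ⧸ Ideal.span {x ^ k}) y := by
  have h1 : IsSMulRegular (Rk A x 1) y := ((RkSelfEquiv x 1).isSMulRegular_congr y).mpr hy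
  exact ((RkSelfEquiv x k).isSMulRegular_congr y).mp
    (isSMulRegular_Rk A x y (isSMulRegular_self_of_ne_zero hx0) h1 k)

/-- Hartogs for `A / x^(k+1)`. -/
theorem T_ιL_eq_range (hn : 3 ≤ (maximalIdeal A).spanFinrank) {x y : A}
    (hx𝔪 : x ∈ maximalIdeal A) (hx0 : x ≠ 0) (hy𝔪 : y ∈ maximalIdeal A)
    (hy : IsSMulRegular (A ⧸ Ideal.span {x ^ 1}) y) (k : ℕ) :
    T (maximalIdeal A) (ιL x y (k + 1)) = LinearMap.range (ιL x y (k + 1)) :=
  T_eq_range_of_depth (ιL x y (k + 1)) y hy𝔪 (isSMulRegular_quot_pow hx0 hy (k + 1))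
    (two_le_depth_quot_pow hn hx𝔪 hx0 k)

end Regular

section Choice

variable {A : Type u} [CommRing A] [IsNoetherianRing A] [IsLocalRing A]

/-- a finite module of depth `≥ 1` has a regular element in the maximal ideal -/
theorem exists_isSMulRegular_of_depth {M : Type u} [AddCommGroup M] [Module A M]
    [Module.Finite A M] (hd : 1 ≤ LocCoh.depth A M) : ∃ r ∈ maximalIdeal A, IsSMulRegular M r := by
  rcases (Groth.Agent.Lib.Helper93.Depth.one_le_idealDepth_iff).mp hd with h | h
  · have hbot : (⊤ : Submodule A M) = ⊥ := by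
      apply Submodule.eq_bot_of_le_smul_of_le_jacobson_bot (maximalIdeal A) ⊤ Module.Finite.fg_top
      · rw [h]
      · exact IsLocalRing.maximalIdeal_le_jacobson _
    refine ⟨0, zero_mem _, ?_⟩
    intro a b _
    have ha : a ∈ (⊤ : Submodule A M) := trivial
    have hb : b ∈ (⊤ : Submodule A M) := trivial
    rw [hbot, Submodule.mem_bot] at ha hb
    rw [ha, hb]
  · exact h

theorem maximalIdeal_notMem_associatedPrimes {M : Type u} [AddCommGroup M] [Module A M]
    [Module.Finite A M] (hd : 1 ≤ LocCoh.depth A M) : maximalIdeal A ∉ associatedPrimes A M := by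
  intro hass
  obtain ⟨r, hr, hreg⟩ := exists_isSMulRegular_of_depth hd
  exact (Groth.Agent.Lib.Helper29.forall_not_isSMulRegular_iff_mem_associatedPrimes A M).mpr hass
    r hr hreg

/-- two modules of depth `≥ 1` have a common regular element -/
theorem exists_isSMulRegular_pair {M N : Type u} [AddCommGroup M] [Module A M]
    [Module.Finite A M] [AddCommGroup N] [Module A N] [Module.Finite A N]
    (hM : 1 ≤ LocCoh.depth A M) (hN : 1 ≤ LocCoh.depth A N) :
    ∃ r ∈ maximalIdeal A, IsSMulRegular M r ∧ IsSMulRegular N r := by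
  have h1 : 1 ≤ LocCoh.depth A (M × N) :=
    le_trans (le_min hM hN)
      (Groth.Agent.Lib.Helper93.Depth.min_le_idealDepth_prod (maximalIdeal A) M N)
  obtain ⟨r, hr, hreg⟩ := exists_isSMulRegular_of_depth h1
  exact ⟨r, hr, IsSMulRegular.of_injective (LinearMap.inl A M N) LinearMap.inl_injective hreg,
    IsSMulRegular.of_injective (LinearMap.inr A M N) LinearMap.inr_injective hreg⟩

end Choice

section ChoiceX

variable {A : Type u} [CommRing A] [IsRegularLocalRing A]

/-- a regular parameter which is regular on a given module of positive depth -/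
theorem exists_notMem_sq_isSMulRegular {M : Type u} [AddCommGroup M] [Module A M]
    [Module.Finite A M] (hpos : (maximalIdeal A).spanFinrank ≠ 0) (hd : 1 ≤ LocCoh.depth A M) :
    ∃ x ∈ maximalIdeal A, x ∉ maximalIdeal A ^ 2 ∧ IsSMulRegular M x := by
  classical
  have hfin : (associatedPrimes A M).Finite := associatedPrimes.finite A M
  let s : Finset (Ideal A) := insert (maximalIdeal A ^ 2) hfin.toFinset
  have hprime : ∀ i ∈ s, i ≠ maximalIdeal A ^ 2 → i ≠ maximalIdeal A ^ 2 →
      (id i : Ideal A).IsPrime := by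
    intro i hi hne _
    rcases Finset.mem_insert.mp hi with h | h
    · exact (hne h).elim
    · exact ((Set.Finite.mem_toFinset hfin).mp h).1
  have hnot : ¬ ∃ i ∈ s, maximalIdeal A ≤ id i := by
    rintro ⟨i, hi, hle⟩
    rcases Finset.mem_insert.mp hi with h | h
    · rw [h, id, pow_two] at hle
      have hbot : maximalIdeal A = ⊥ :=
        Submodule.eq_bot_of_le_smul_of_le_jacobson_bot (maximalIdeal A) (maximalIdeal A)
          (maximalIdeal A).fg_of_isNoetherianRing hle
          (IsLocalRing.jacobson_eq_maximalIdeal _ bot_ne_top).ge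
      apply hpos
      rw [hbot]
      exact Submodule.spanFinrank_bot
    · have hass : i ∈ associatedPrimes A M := (Set.Finite.mem_toFinset hfin).mp h
      have hip : i.IsPrime := hass.1
      have heq : i = maximalIdeal A :=
        ((maximalIdeal.isMaximal A).eq_of_le hip.ne_top hle).symm
      rw [heq] at hass
      exact maximalIdeal_notMem_associatedPrimes hd hass
  have hcover := (Ideal.subset_union_prime (s := s) (f := id) (maximalIdeal A ^ 2)
    (maximalIdeal A ^ 2) hprime (I := maximalIdeal A)).not.mpr hnot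
  rw [Set.not_subset] at hcover
  obtain ⟨x, hxm, hx⟩ := hcover
  simp only [Set.mem_iUnion, not_exists] at hx
  refine ⟨x, hxm, ?_, ?_⟩
  · intro h
    exact hx (maximalIdeal A ^ 2) (Finset.mem_coe.mpr (Finset.mem_insert_self _ _)) h
  · by_contra hreg
    have hmem : x ∈ ({r : A | IsSMulRegular M r}ᶜ : Set A) := hreg
    rw [← biUnion_associatedPrimes_eq_compl_regular A M] at hmem
    simp only [Set.mem_iUnion] at hmem
    obtain ⟨p, hp, hxp⟩ := hmem
    exact hx p (Finset.mem_coe.mpr (Finset.mem_insert_of_mem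
      ((Set.Finite.mem_toFinset hfin).mpr hp))) hxp

end ChoiceX

section Convert

variable {A : Type u} [CommRing A] [IsLocalRing A] {B : Type u} [CommRing B] [Algebra A B]

theorem formallyEtale_away_of_isEtaleAt
    (h : ∀ (q : Ideal B) (_ : q.IsPrime), q.comap (algebraMap A B) ≠ maximalIdeal A →
      Algebra.IsEtaleAt A q) (f : A) (hf : f ∈ maximalIdeal A) :
    Algebra.FormallyEtale A (Localization.Away (algebraMap A B f)) := by
  rw [← Algebra.basicOpen_subset_etaleLocus_iff]
  intro q hq
  have hq' : algebraMap A B f ∉ q.asIdeal := hq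
  apply h q.asIdeal q.isPrime
  intro heq
  apply hq'
  have : f ∈ q.asIdeal.comap (algebraMap A B) := by rw [heq]; exact hf
  exact this

theorem isEtaleAt_of_formallyEtale_away
    (h : ∀ f ∈ maximalIdeal A, Algebra.FormallyEtale A (Localization.Away (algebraMap A B f)))
    (q : PrimeSpectrum B) (hq : q.asIdeal.comap (algebraMap A B) ≠ maximalIdeal A) :
    Algebra.IsEtaleAt A q.asIdeal := by
  have hle : q.asIdeal.comap (algebraMap A B) ≤ maximalIdeal A :=
    IsLocalRing.le_maximalIdeal (Ideal.IsPrime.ne_top inferInstance)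
  obtain ⟨f, hf𝔪, hfq⟩ : ∃ f ∈ maximalIdeal A, f ∉ q.asIdeal.comap (algebraMap A B) := by
    by_contra hcon
    push Not at hcon
    exact hq (le_antisymm hle hcon)
  have := Algebra.basicOpen_subset_etaleLocus_iff.mpr (h f hf𝔪)
  exact this (show q ∈ PrimeSpectrum.basicOpen (algebraMap A B f) from hfq)

theorem etale_of_flat [IsNoetherianRing A] (hdim : (2 : WithBot ℕ∞) ≤ ringKrullDim A)
    [Module.Finite A B] [Module.Flat A B]
    (h : ∀ f ∈ maximalIdeal A, Algebra.FormallyEtale A (Localization.Away (algebraMap A B f))) :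
    Algebra.Etale A B :=
  Groth.Agent.Lib.Helper2.etale_of_finite_flat_of_isEtaleAt_off_closedPoint A B hdim
    (fun q hq => isEtaleAt_of_formallyEtale_away h q hq)

/-- factorization of `f^N • id_B` through a free module, when `B_f` is étale over `A` -/
theorem exists_factor_of_formallyEtale [IsNoetherianRing A] [Module.Finite A B] (f : A)
    [Algebra.FormallyEtale A (Localization.Away (algebraMap A B f))] :
    ∃ (N r : ℕ) (α : Fin r → B →ₗ[A] A) (b : Fin r → B), ∀ z, f ^ N • z = ∑ i, α i z • b i := by
  have hfl := flat_away_of_formallyEtale (A := A) (algebraMap A B f)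
  have : IsLocalizedModule (powers f)
      (IsScalarTower.toAlgHom A B (Localization.Away (algebraMap A B f))).toLinearMap := by
    rw [isLocalizedModule_iff_isLocalization, Algebra.algebraMapSubmonoid_powers]
    infer_instance
  exact exists_factor_pow f
    (IsScalarTower.toAlgHom A B (Localization.Away (algebraMap A B f))).toLinearMap hfl

end Convert

end Groth.Agent.Lib.Helper29.Purity
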