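import Mathlib
import Groth.Agent.Lib.Helper29.Purity.Prep
import Groth.Agent.Lib.Helper29.Purity.Lift
import Groth.Agent.Lib.Helper73.MCM
import Groth.Agent.Lib.Helper3.EtaleQuotLift

/-!
# Zariski–Nagata purity, depth form (helper29)

`purity`: let `A` be a regular local ring of dimension `≥ 2` and `B` a finite `A`-algebra of depth
`≥ 2` (as an `A`-module) which is étale over the punctured spectrum of `A`.  Then `B` is étale
over `A`.

The proof is by induction on `dim A`.  For `dim A = 2`, `B` is maximal Cohen–Macaulay, hence free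
(Auslander–Buchsbaum).  For `dim A ≥ 3` choose a regular parameter `x` which is `B`-regular and
`y` regular on `B/xB` and `A/x`; the ring `C0` of sections of `B/xB` over the punctured spectrum of
`A/x` is étale over `A/x` by induction; lift it to an étale `A`-algebra `D`; the map `D → C0` lifts
to punctured sections of `B/x^(N+1)B` (formal étaleness), and the "Lefschetz computation"
`thick_star` shows that punctured sections of `B/xB` which lift to punctured sections of
`B/x^(N+1)B` are global, whence `B/xB = C0` is flat over `A/x` and `B` is flat over `A`.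
-/

set_option autoImplicit false
set_option linter.unusedSectionVars false
universe u

namespace Groth.Agent.Lib.Helper29.Purity

open Submonoid IsLocalRing Pointwise

section Pieces

variable {A : Type u} [CommRing A] (B : Type u) [CommRing B] [Algebra A B] (x y : A)

theorem isNilpotent_ker_factor (N : ℕ) :
    IsNilpotent (RingHom.ker (Ideal.Quotient.factor (Ik_le B x (Nat.le_add_left 1 N)))) := by
  refine ⟨N + 1, ?_⟩
  have h1 : Ik B x 1 ^ (N + 1) = Ik B x (N + 1) := by
    rw [Ik, Ik, ← Ideal.map_pow, Ideal.span_singleton_pow, pow_one]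
  rw [Ideal.Quotient.factor_ker, ← Ideal.map_pow, h1, Ideal.map_quotient_self, Ideal.zero_eq_bot]

/-- the canonical map `B/xB → C0` -/
noncomputable def RkToC0 (𝔪 : Ideal A) : Rk B x 1 →ₐ[A ⧸ Ideal.span {x ^ 1}] C0 B x y 𝔪 :=
  (IsScalarTower.toAlgHom (A ⧸ Ideal.span {x ^ 1}) (Rk B x 1) (Sk B x y 1)).codRestrict
    (C0 B x y 𝔪) (fun z => algebraMap_mem_C0 B x y 𝔪 z)

theorem flat_Rk_of_forall_mem_range (𝔪 : Ideal A) (hx : IsSMulRegular B x)
    (hy : IsSMulRegular (Rk B x 1) y)
    (h : ∀ c : C0 B x y 𝔪, (c : Sk B x y 1) ∈ LinearMap.range (ιk B x y 1))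
    [Module.Flat (A ⧸ Ideal.span {x ^ 1}) (C0 B x y 𝔪)] :
    Module.Flat (A ⧸ Ideal.span {x ^ 1}) (Rk B x 1) := by
  have hbij : Function.Bijective (RkToC0 B x y 𝔪).toLinearMap := by
    constructor
    · intro z w hzw
      apply ιk_injective B x y hx hy 1
      exact congrArg Subtype.val hzw
    · intro c
      obtain ⟨z, hz⟩ := h c
      exact ⟨z, Subtype.ext hz⟩
  exact Module.Flat.of_linearEquiv (LinearEquiv.ofBijective _ hbij)

theorem free_of_free_Rk [IsLocalRing A] [IsNoetherianRing A] [Module.Finite A B]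
    (hx𝔪 : x ∈ maximalIdeal A) (hx : IsSMulRegular B x)
    [Module.Free (A ⧸ Ideal.span {x ^ 1}) (Rk B x 1)] : Module.Free A B := by
  have hfp : Module.FinitePresentation A B := Module.finitePresentation_of_finite A B
  have mem : x ^ 1 ∈ (⊥ : Ideal A).jacobson := by
    rw [pow_one, IsLocalRing.jacobson_eq_maximalIdeal _ bot_ne_top]
    exact hx𝔪
  have reg : IsSMulRegular B (x ^ 1) := by rwa [pow_one]
  rw [← Module.free_quotSMulTop_iff_free A B mem reg]
  exact Module.Free.of_equiv
    ((quotSMulTopEquiv B (x ^ 1)).extendScalarsOfSurjective Ideal.Quotient.mk_surjective).symm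

/-- every punctured section of `B/xB` is global, given an étale lift `D` of `C0`. -/
theorem forall_mem_range_of_lift (𝔪 : Ideal A) (hx : IsSMulRegular B x)
    (hy : IsSMulRegular (Rk B x 1) y) (N : ℕ) {r : ℕ} (α : Fin r → B →ₗ[A] A) (b : Fin r → B)
    (hαb : ∀ z : B, x ^ N • z = ∑ i, α i z • b i)
    (hL : T 𝔪 (ιL x y (N + 1)) = LinearMap.range (ιL x y (N + 1)))
    {D : Type u} [CommRing D] [Algebra A D] [Algebra.FormallyEtale A D]
    (ψ : D →+* C0 B x y 𝔪) (hψsurj : Function.Surjective ψ)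
    (hψA : ∀ a, ψ (algebraMap A D a) =
      algebraMap (A ⧸ Ideal.span {x ^ 1}) (C0 B x y 𝔪) (Ideal.Quotient.mk _ a))
    (c : C0 B x y 𝔪) : (c : Sk B x y 1) ∈ LinearMap.range (ιk B x y 1) := by
  obtain ⟨d, rfl⟩ := hψsurj c
  let ψ₀ : D →ₐ[A] Sk B x y 1 :=
    { (C0 B x y 𝔪).val.toRingHom.comp ψ with
      commutes' := fun a => by
        change ((ψ (algebraMap A D a) : C0 B x y 𝔪) : Sk B x y 1) = _
        rw [hψA]
        change algebraMap (A ⧸ Ideal.span {x ^ 1}) (Sk B x y 1) (Ideal.Quotient.mk _ a) = _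
        rw [IsScalarTower.algebraMap_apply A (A ⧸ Ideal.span {x ^ 1}) (Sk B x y 1)]
        rfl }
  have hψ₀ : ∀ d, ψ₀ d ∈ T 𝔪 (IsScalarTower.toAlgHom A (Rk B x 1) (Sk B x y 1)).toLinearMap :=
    fun d => (ψ d).2
  obtain ⟨ψ', h1, h2⟩ := exists_lift_mem_T 𝔪
    (Ideal.Quotient.factor (Ik_le B x (Nat.le_add_left 1 N)))
    (factor_algebraMap B x (Nat.le_add_left 1 N)) (Ideal.Quotient.factor_surjective _)
    (isNilpotent_ker_factor B x N) (ρS B x y N) (ρS_algebraMap B x y N) y ψ₀ hψ₀
  have h3 := thick_star B x y 𝔪 hx hy N α b hαb hL (ψ' d) (h2 d)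
  rw [h1] at h3
  exact h3

end Pieces

/-- The induction step: flatness of `B` from purity in one dimension less. -/
theorem flat_step (A : Type u) [CommRing A] [IsRegularLocalRing A] (n : ℕ)
    (hn : (maximalIdeal A).spanFinrank = n + 3)
    (IH : ∀ (A' : Type u) [CommRing A'] [IsRegularLocalRing A'] (B' : Type u) [CommRing B']
      [Algebra A' B'] [Module.Finite A' B'],
      (maximalIdeal A').spanFinrank = n + 2 → 2 ≤ LocCoh.depth A' B' →
      (∀ f ∈ maximalIdeal A',
        Algebra.FormallyEtale A' (Localization.Away (algebraMap A' B' f))) →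
      Algebra.Etale A' B')
    (B : Type u) [CommRing B] [Algebra A B] [Module.Finite A B]
    (hd : 2 ≤ LocCoh.depth A B)
    (het : ∀ f ∈ maximalIdeal A,
      Algebra.FormallyEtale A (Localization.Away (algebraMap A B f))) :
    Module.Flat A B := by
  -- choose `x`
  have hd1 : 1 ≤ LocCoh.depth A B := le_trans (by norm_num) hd
  obtain ⟨x, hx𝔪, hx2, hx⟩ := exists_notMem_sq_isSMulRegular (M := B) (by omega) hd1
  have hx0 : x ≠ 0 := by
    rintro rfl
    exact hx2 (zero_mem _)
  -- `A₀ = A / x` is regular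
  obtain ⟨hreg0, hsf⟩ := Groth.Agent.Lib.Helper85.isRegularLocalRing_quotient_span_singleton
    (x ^ 1) (by rwa [pow_one]) (by rwa [pow_one])
  have : IsRegularLocalRing (A ⧸ Ideal.span {x ^ 1}) := hreg0
  have hsf0 : (maximalIdeal (A ⧸ Ideal.span {x ^ 1})).spanFinrank = n + 2 := by omega
  -- choose `y`
  have hdR : 1 ≤ LocCoh.depth A (Rk B x 1) := one_le_depth_Rk B hx𝔪 hx hd
  have hdA : 1 ≤ LocCoh.depth A (A ⧸ Ideal.span {x ^ 1}) :=
    le_trans (by norm_num) (two_le_depth_quot_pow (by omega) hx𝔪 hx0 0)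
  obtain ⟨y, hy𝔪, hy, hyA⟩ := exists_isSMulRegular_pair hdR hdA
  -- Hartogs on the `A` side
  have hL := T_ιL_eq_range (A := A) (by omega) hx𝔪 hx0 hy𝔪 hyA
  -- factorization data
  have := het x hx𝔪
  obtain ⟨N, r, α, b, hαb⟩ := exists_factor_of_formallyEtale (A := A) (B := B) x
  have := het y hy𝔪
  obtain ⟨M, r', α', b', hαb'⟩ := exists_factor_of_formallyEtale (A := A) (B := B) y
  -- `C0`
  have hfinC : Module.Finite (A ⧸ Ideal.span {x ^ 1}) (C0 B x y (maximalIdeal A)) :=
    finite_C0 B x y (maximalIdeal A) M α' b' hαb' (hL 0)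
  have hdC := two_le_depth_C0 B x y hy𝔪
  have hetC : ∀ f₀ ∈ maximalIdeal (A ⧸ Ideal.span {x ^ 1}),
      Algebra.FormallyEtale (A ⧸ Ideal.span {x ^ 1})
        (Localization.Away
          (algebraMap (A ⧸ Ideal.span {x ^ 1}) (C0 B x y (maximalIdeal A)) f₀)) := by
    intro f₀ hf₀
    obtain ⟨f, rfl⟩ := Ideal.Quotient.mk_surjective f₀
    have hf : f ∈ maximalIdeal A := (mk_mem_maximalIdeal_iff x f).mp hf₀
    have := het f hf
    exact formallyEtale_away_C0 B x y (maximalIdeal A) hx hy f hf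
  have hCet : Algebra.Etale (A ⧸ Ideal.span {x ^ 1}) (C0 B x y (maximalIdeal A)) :=
    IH (A ⧸ Ideal.span {x ^ 1}) (C0 B x y (maximalIdeal A)) hsf0 hdC hetC
  -- étale lift
  obtain ⟨D, _, _, hDet, ψ, hψsurj, -, hψA⟩ :=
    Groth.Agent.Lib.Helper3.exists_etale_lift_of_quotient (Ideal.span {x ^ 1})
      (C0 B x y (maximalIdeal A))
  have hrange := forall_mem_range_of_lift B x y (maximalIdeal A) hx hy N α b hαb (hL N) ψ hψsurj
    hψA
  have : Module.Flat (A ⧸ Ideal.span {x ^ 1}) (C0 B x y (maximalIdeal A)) := inferInstance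
  have := flat_Rk_of_forall_mem_range B x y (maximalIdeal A) hx hy hrange
  have : Module.Finite (A ⧸ Ideal.span {x ^ 1}) (Rk B x 1) :=
    Module.Finite.of_restrictScalars_finite A _ _
  have : Module.Free (A ⧸ Ideal.span {x ^ 1}) (Rk B x 1) := Module.free_of_flat_of_isLocalRing
  have := free_of_free_Rk B x hx𝔪 hx
  infer_instance

theorem purity_aux : ∀ (n : ℕ) (A : Type u) [CommRing A] [IsRegularLocalRing A] (B : Type u)
    [CommRing B] [Algebra A B] [Module.Finite A B],
    (maximalIdeal A).spanFinrank = n + 2 → 2 ≤ LocCoh.depth A B →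
    (∀ f ∈ maximalIdeal A, Algebra.FormallyEtale A (Localization.Away (algebraMap A B f))) →
    Algebra.Etale A B := by
  intro n
  induction n with
  | zero =>
    intro A _ _ B _ _ _ hsf hd het
    have hdim : (2 : WithBot ℕ∞) ≤ ringKrullDim A := by
      rw [← IsRegularLocalRing.spanFinrank_maximalIdeal (R := A), hsf]
      exact_mod_cast le_rfl
    have : Module.Free A B := Groth.Agent.Lib.Helper73.MCM.free_of_le_depth A B (by
      rw [hsf]
      exact_mod_cast hd)
    exact etale_of_flat hdim het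
  | succ n ih =>
    intro A _ _ B _ _ _ hsf hd het
    have hdim : (2 : WithBot ℕ∞) ≤ ringKrullDim A := by
      rw [← IsRegularLocalRing.spanFinrank_maximalIdeal (R := A), hsf]
      exact_mod_cast (by omega : 2 ≤ n + 1 + 2)
    have : Module.Flat A B :=
      flat_step A n hsf (fun A' _ _ B' _ _ _ => ih A' B') B hd het
    exact etale_of_flat hdim het

/-- **Zariski–Nagata purity of the branch locus**, depth form. -/
theorem purity (A B : Type u) [CommRing A] [IsRegularLocalRing A]
    (hA : (2 : WithBot ℕ∞) ≤ ringKrullDim A) [CommRing B] [Algebra A B] [Module.Finite A B]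
    (hd : 2 ≤ LocCoh.depth A B)
    (h : ∀ (q : Ideal B) (_ : q.IsPrime), q.comap (algebraMap A B) ≠ maximalIdeal A →
      Algebra.IsEtaleAt A q) : Algebra.Etale A B := by
  have h2 : 2 ≤ (maximalIdeal A).spanFinrank := by
    rw [← IsRegularLocalRing.spanFinrank_maximalIdeal (R := A)] at hA
    exact_mod_cast hA
  obtain ⟨n, hn⟩ : ∃ n, (maximalIdeal A).spanFinrank = n + 2 :=
    ⟨(maximalIdeal A).spanFinrank - 2, by omega⟩
  exact purity_aux n A B hn hd (formallyEtale_away_of_isEtaleAt h)

end Groth.Agent.Lib.Helper29.Purity
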