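import Mathlib
import Groth.Agent.Lib.Helper29.Purity.Main

/-!
# Zariski–Nagata purity for normal domains (helper29)

* `two_le_depth_of_T_le_range`: converse of Hartogs: if all punctured sections are global then
  depth `≥ 2`.
* `fg_T_of_factor`: the module of punctured sections is finite if `y^k • id` factors through a
  module for which Hartogs holds.
* `two_le_depth_of_isIntegrallyClosed`: a finite normal domain `B ⊇ A`, étale over the punctured
  spectrum of the regular local ring `A` (`dim A ≥ 2`), has depth `≥ 2` as an `A`-module.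
* `purity_normal`: Zariski–Nagata purity for finite normal domains over a regular local ring.
-/

set_option autoImplicit false
set_option linter.unusedSectionVars false
universe u

namespace Groth.Agent.Lib.Helper29.Purity

open Submonoid IsLocalRing Pointwise

section TwoLe

variable {A : Type u} [CommRing A] [IsNoetherianRing A] [IsLocalRing A]

theorem two_le_depth_of_T_le_range {M : Type u} [AddCommGroup M] [Module A M] [Module.Finite A M]
    {M' : Type*} [AddCommGroup M'] [Module A M'] (ι : M →ₗ[A] M') (y : A)
    [IsLocalizedModule (powers y) ι] (hym : y ∈ maximalIdeal A) (hy : IsSMulRegular M y)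
    (hT : T (maximalIdeal A) ι ≤ LinearMap.range ι) : 2 ≤ LocCoh.depth A M := by
  have hιinj : Function.Injective ι := by
    rw [← LinearMap.ker_eq_bot, LinearMap.ker_eq_bot']
    intro m hm
    obtain ⟨⟨_, e, rfl⟩, he⟩ := (IsLocalizedModule.eq_zero_iff (powers y) ι).mp hm
    exact (hy.pow e) (show y ^ e • m = y ^ e • 0 by rw [smul_zero]; exact he)
  have hyinj : Function.Injective (fun s : M' => y • s) :=
    IsLocalizedModule.smul_injective ι (⟨y, mem_powers y⟩ : powers y)
  have hysurj : Function.Surjective (fun s : M' => y • s) := by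
    have h1 := IsLocalizedModule.map_units ι (⟨y, mem_powers y⟩ : powers y)
    exact ((Module.End.isUnit_iff _).mp h1).surjective
  have hex : ∃ z ∈ maximalIdeal A, IsSMulRegular (QuotSMulTop y M) z := by
    by_contra hcon
    push Not at hcon
    have hass := (Groth.Agent.Lib.Helper29.forall_not_isSMulRegular_iff_mem_associatedPrimes A
      (QuotSMulTop y M)).mp hcon
    obtain ⟨-, q, hq⟩ := (isAssociatedPrime_iff).mp hass
    obtain ⟨c, rfl⟩ := Submodule.mkQ_surjective _ q
    have hkill : ∀ f ∈ maximalIdeal A, ∃ c' : M, f • c = y • c' := by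
      intro f hf
      have h1 : f ∈ Submodule.colon (⊥ : Submodule A (QuotSMulTop y M)) {Submodule.mkQ _ c} := by
        rw [← hq]; exact hf
      rw [Submodule.mem_colon_singleton, Submodule.mem_bot, ← map_smul, Submodule.mkQ_apply,
        Submodule.Quotient.mk_eq_zero] at h1
      obtain ⟨c', -, hc'⟩ := (Submodule.mem_smul_pointwise_iff_exists _ _ _).mp h1
      exact ⟨c', hc'.symm⟩
    obtain ⟨s, hs⟩ := hysurj (ι c)
    replace hs : y • s = ι c := hs
    have hsT : s ∈ T (maximalIdeal A) ι := by
      intro f hf
      obtain ⟨c', hc'⟩ := hkill f hf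
      refine ⟨1, c', ?_⟩
      rw [pow_one]
      apply hyinj
      change y • ι c' = y • f • s
      rw [smul_comm y f s]
      change y • ι c' = f • (y • s)
      rw [hs, ← map_smul, ← map_smul, hc']
    obtain ⟨m, hm⟩ := hT hsT
    have hc0 : c = y • m := by
      apply hιinj
      rw [map_smul, hm]
      exact hs.symm
    have hq0 : Submodule.mkQ (y • (⊤ : Submodule A M)) c = 0 := by
      rw [Submodule.mkQ_apply, Submodule.Quotient.mk_eq_zero, hc0]
      exact Submodule.smul_mem_pointwise_smul _ y ⊤ trivial
    have htop : maximalIdeal A = ⊤ := by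
      rw [hq, hq0]
      ext a
      simp [Submodule.mem_colon_singleton]
    exact (maximalIdeal.isMaximal A).ne_top htop
  obtain ⟨z, hz, hzreg⟩ := hex
  have hwr : RingTheory.Sequence.IsWeaklyRegular M [y, z] := by
    rw [RingTheory.Sequence.isWeaklyRegular_cons_iff]
    exact ⟨hy, (RingTheory.Sequence.isWeaklyRegular_singleton_iff _ z).mpr hzreg⟩
  have := Groth.Agent.Lib.Helper93.Depth.length_le_idealDepth (I := maximalIdeal A) hwr (by
    intro r hr
    simp only [List.mem_cons, List.not_mem_nil, or_false] at hr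
    rcases hr with rfl | rfl
    · exact hym
    · exact hz)
  exact_mod_cast this

end TwoLe

section FG

theorem fg_T_of_factor {A : Type*} [CommRing A] [IsNoetherianRing A] (𝔪 : Ideal A) (y : A)
    {M M' L L' : Type*} [AddCommGroup M] [Module A M] [AddCommGroup M'] [Module A M']
    [AddCommGroup L] [Module A L] [AddCommGroup L'] [Module A L'] [Module.Finite A L]
    (ιM : M →ₗ[A] M') (ιL : L →ₗ[A] L') [IsLocalizedModule (powers y) ιM]
    [IsLocalizedModule (powers y) ιL]
    (k : ℕ) {r : ℕ} (α : Fin r → M →ₗ[A] L) (β : Fin r → L →ₗ[A] M)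
    (hαβ : ∀ z, y ^ k • z = ∑ i, β i (α i z))
    (hL : T 𝔪 ιL = LinearMap.range ιL) : (T 𝔪 ιM).FG := by
  let T0 : Submodule A M' := T 𝔪 ιM
  let Φ : M' →ₗ[A] (Fin r → L') :=
    LinearMap.pi (fun i => IsLocalizedModule.map (powers y) ιM ιL (α i))
  let W : Submodule A (Fin r → L') := LinearMap.range (ιL.compLeft (Fin r))
  have hΦ : ∀ s ∈ T0, Φ s ∈ W := by
    intro s hs
    have hl : ∀ i, ∃ l, ιL l = IsLocalizedModule.map (powers y) ιM ιL (α i) s := by
      intro i
      have : IsLocalizedModule.map (powers y) ιM ιL (α i) s ∈ T 𝔪 ιL :=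
        map_mem_T ιL (α i) _ (fun z => IsLocalizedModule.map_apply (powers y) ιM ιL _ z) hs
      rwa [hL] at this
    choose l hl using hl
    refine ⟨l, ?_⟩
    ext i
    exact hl i
  have hinj : ∀ s ∈ T0, Φ s = 0 → s = 0 := by
    intro s _ hs0
    have h1 := smul_eq_sum_map y ιM ιL (y ^ k) α β hαβ s
    have h2 : ∀ i, IsLocalizedModule.map (powers y) ιM ιL (α i) s = 0 := fun i => congrFun hs0 i
    simp only [h2, map_zero, Finset.sum_const_zero] at h1
    exact IsLocalizedModule.smul_injective ιM (⟨y ^ k, k, rfl⟩ : powers y)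
      (show y ^ k • s = y ^ k • 0 by rw [smul_zero]; exact h1)
  have hWfin : Module.Finite A W := inferInstance
  have hWnoeth : IsNoetherian A W := isNoetherian_of_isNoetherianRing_of_finite A W
  let g : T0 →ₗ[A] W := LinearMap.codRestrict W (Φ ∘ₗ T0.subtype) (fun s => hΦ s.1 s.2)
  have hg : Function.Injective g := by
    rw [← LinearMap.ker_eq_bot, LinearMap.ker_eq_bot']
    intro s hs
    have : Φ s.1 = 0 := congrArg Subtype.val hs
    exact Subtype.ext (hinj s.1 s.2 this)
  have hT0 : Module.Finite A T0 := Module.Finite.of_injective g hg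
  exact Module.Finite.iff_fg.mp hT0

end FG

section Normal

variable {A : Type u} [CommRing A] (B : Type u) [CommRing B] [Algebra A B] (y : A) (𝔪 : Ideal A)

/-- the localization map `B → B_y` as an `A`-linear map -/
noncomputable abbrev ιB : B →ₗ[A] Localization.Away (algebraMap A B y) :=
  (IsScalarTower.toAlgHom A B (Localization.Away (algebraMap A B y))).toLinearMap

instance : IsLocalizedModule (powers y) (ιB B y) := by
  rw [isLocalizedModule_iff_isLocalization, Algebra.algebraMapSubmonoid_powers]
  infer_instance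

/-- the ring of punctured sections of `B`, inside `B_y` -/
def Tsub : Subalgebra A (Localization.Away (algebraMap A B y)) where
  carrier := T 𝔪 (ιB B y)
  mul_mem' := by
    intro s t hs ht f hf
    obtain ⟨e₁, r₁, h₁⟩ := hs f hf
    obtain ⟨e₂, r₂, h₂⟩ := ht f hf
    refine ⟨e₁ + e₂, r₁ * r₂, ?_⟩
    change algebraMap B (Localization.Away (algebraMap A B y)) (r₁ * r₂) = _
    rw [pow_add, ← smul_mul_smul_comm, ← h₁, ← h₂, map_mul]
    rfl
  add_mem' := fun hs ht => (T 𝔪 (ιB B y)).add_mem hs ht
  algebraMap_mem' := by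
    intro a
    apply range_le_T
    exact ⟨algebraMap A B a, (IsScalarTower.algebraMap_apply A B _ a).symm⟩

theorem T_le_range_of_isIntegrallyClosed [IsDomain B] [IsIntegrallyClosed B]
    (hy0 : algebraMap A B y ≠ 0) (hfg : (T 𝔪 (ιB B y)).FG) :
    T 𝔪 (ιB B y) ≤ LinearMap.range (ιB B y) := by
  intro s hs
  have hint : IsIntegral A s := IsIntegral.of_mem_of_fg (Tsub B y 𝔪) hfg s hs
  have hintB : IsIntegral B s := hint.tower_top
  have hu : IsUnit (algebraMap B (FractionRing B) (algebraMap A B y)) := by
    apply IsUnit.mk0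
    rw [Ne, map_eq_zero_iff _ (IsFractionRing.injective B (FractionRing B))]
    exact hy0
  let j : Localization.Away (algebraMap A B y) →+* FractionRing B :=
    IsLocalization.Away.lift (algebraMap A B y) hu
  have hj : ∀ b, j (algebraMap B _ b) = algebraMap B (FractionRing B) b :=
    fun b => IsLocalization.Away.lift_eq _ hu b
  have hjinj : Function.Injective j := by
    rw [injective_iff_map_eq_zero]
    intro p hp
    obtain ⟨⟨b, m⟩, rfl⟩ := IsLocalization.mk'_surjective (Submonoid.powers (algebraMap A B y)) p
    simp only at hp ⊢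
    have h1 : j (algebraMap B _ b) = 0 := by
      rw [← IsLocalization.mk'_spec (Localization.Away (algebraMap A B y)) b m, map_mul, hp,
        zero_mul]
    rw [hj, map_eq_zero_iff _ (IsFractionRing.injective B (FractionRing B))] at h1
    rw [h1, IsLocalization.mk'_zero]
  let jₐ : Localization.Away (algebraMap A B y) →ₐ[B] FractionRing B :=
    { j with commutes' := hj }
  have hintL : IsIntegral B (jₐ s) := hintB.map jₐ
  obtain ⟨b, hb⟩ := IsIntegrallyClosed.algebraMap_eq_of_integral hintL
  refine ⟨b, ?_⟩
  apply hjinj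
  change j (algebraMap B _ b) = j s
  rw [hj, hb]
  rfl

end Normal

section Final

variable (A B : Type u) [CommRing A] [IsRegularLocalRing A] [CommRing B] [Algebra A B]
  [Module.Finite A B]

/-- Hartogs for `A` itself -/
theorem T_ιB_self_eq_range (h2 : 2 ≤ (maximalIdeal A).spanFinrank) {y : A}
    (hy𝔪 : y ∈ maximalIdeal A) (hy0 : y ≠ 0) :
    T (maximalIdeal A) (ιB A y) = LinearMap.range (ιB A y) :=
  T_eq_range_of_depth (ιB A y) y hy𝔪 (isSMulRegular_self_of_ne_zero hy0) (by
    rw [depth_self_eq]
    exact_mod_cast h2)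

theorem two_le_depth_of_isIntegrallyClosed [IsDomain B] [IsIntegrallyClosed B]
    (h2 : 2 ≤ (maximalIdeal A).spanFinrank) (hinj : Function.Injective (algebraMap A B))
    (het : ∀ f ∈ maximalIdeal A,
      Algebra.FormallyEtale A (Localization.Away (algebraMap A B f))) :
    2 ≤ LocCoh.depth A B := by
  -- a nonzero element of the maximal ideal
  obtain ⟨y, hy𝔪, hy0⟩ : ∃ y ∈ maximalIdeal A, y ≠ 0 := by
    by_contra hcon
    push Not at hcon
    have hbot : maximalIdeal A = ⊥ := by
      rw [eq_bot_iff]
      intro a ha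
      exact (Submodule.mem_bot A).mpr (hcon a ha)
    rw [hbot, Submodule.spanFinrank_bot] at h2
    omega
  have hyB0 : algebraMap A B y ≠ 0 := by
    rw [Ne, map_eq_zero_iff _ hinj]
    exact hy0
  have hyreg : IsSMulRegular B y := by
    intro b c h
    have h' : algebraMap A B y * b = algebraMap A B y * c := by
      rw [← Algebra.smul_def, ← Algebra.smul_def]
      exact h
    exact mul_left_cancel₀ hyB0 h'
  have := het y hy𝔪
  obtain ⟨k, r, α, b, hαb⟩ := exists_factor_of_formallyEtale (A := A) (B := B) y
  have hfg : (T (maximalIdeal A) (ιB B y)).FG :=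
    fg_T_of_factor (maximalIdeal A) y (ιB B y) (ιB A y) k α
      (fun i => LinearMap.toSpanSingleton A B (b i)) (fun z => by
        rw [hαb z]
        rfl) (T_ιB_self_eq_range A h2 hy𝔪 hy0)
  exact two_le_depth_of_T_le_range (ιB B y) y hy𝔪 hyreg
    (T_le_range_of_isIntegrallyClosed B y (maximalIdeal A) hyB0 hfg)

/-- **Zariski–Nagata purity of the branch locus** for finite normal domains over a regular local
ring of dimension `≥ 2`. -/
theorem purity_normal (hA : (2 : WithBot ℕ∞) ≤ ringKrullDim A) [IsDomain B]
    [IsIntegrallyClosed B] (hinj : Function.Injective (algebraMap A B))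
    (h : ∀ (q : Ideal B) (_ : q.IsPrime), q.comap (algebraMap A B) ≠ maximalIdeal A →
      Algebra.IsEtaleAt A q) : Algebra.Etale A B := by
  have h2 : 2 ≤ (maximalIdeal A).spanFinrank := by
    rw [← IsRegularLocalRing.spanFinrank_maximalIdeal (R := A)] at hA
    exact_mod_cast hA
  exact purity A B hA
    (two_le_depth_of_isIntegrallyClosed A B h2 hinj (formallyEtale_away_of_isEtaleAt h)) h

end Final

end Groth.Agent.Lib.Helper29.Purity
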