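import Mathlib
import Groth.Agent.Lib.Helper29.Purity.Normal
import Groth.Agent.Lib.Helper29.HeightMaps
import Groth.Agent.S0564

/-!
# Zariski–Nagata purity, codimension-one form (helper29)

`purity_codim_one`: a finite normal domain `B` over a regular local ring `A` (with `A → B`
injective) which is étale over `A` at all primes of `B` of height `≤ 1` is étale over `A`.

The local step `isEtaleAt_of_forall_lt_normal` is adapted from helper2's
`Groth.Agent.Lib.Helper2.isEtaleAt_of_forall_lt` (finite flat case), replacing the discriminant
argument by `purity_normal`, and using Serre's theorem (`S0564`) that localizations of regular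
local rings are regular.
-/

set_option autoImplicit false
set_option linter.style.haveILetI false
universe u

namespace Groth.Agent.Lib.Helper29.Purity

open IsLocalRing

/-- Local step: if `B` is étale at all primes lying over primes strictly contained in `p`, and `p`
has height `≥ 2`, then `B` is étale at all primes over `p`. -/
theorem isEtaleAt_of_forall_lt_normal {A B : Type u} [CommRing A] [IsRegularLocalRing A]
    [CommRing B] [IsDomain B] [IsIntegrallyClosed B] [Algebra A B] [Module.Finite A B]
    (hinj : Function.Injective (algebraMap A B)) (p : Ideal A) [p.IsPrime] (hp : 2 ≤ p.height)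
    (h : ∀ (q' : Ideal B) [q'.IsPrime], q'.comap (algebraMap A B) < p → Algebra.IsEtaleAt A q')
    (q : Ideal B) [hq : q.IsPrime] (hqp : q.comap (algebraMap A B) = p) :
    Algebra.IsEtaleAt A q := by
  let Ap := Localization.AtPrime p
  let M : Submonoid B := Algebra.algebraMapSubmonoid B p.primeCompl
  let Bp := Localization M
  haveI : IsRegularLocalRing Ap := Groth.Agent.S0564.result A p
  have hM : M ≤ nonZeroDivisors B := by
    rintro _ ⟨a, ha, rfl⟩
    apply mem_nonZeroDivisors_of_ne_zero
    rw [Ne, map_eq_zero_iff _ hinj]
    rintro rfl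
    exact ha (zero_mem p)
  haveI : IsDomain Bp := IsLocalization.isDomain_localization hM
  haveI : IsIntegrallyClosed Bp := isIntegrallyClosed_of_isLocalization Bp M hM
  have hinj' : Function.Injective (algebraMap Ap Bp) :=
    localizationAlgebra_injective Ap Bp hinj
  haveI : Module.Finite Ap Bp := Module.Finite.of_isLocalization A B p.primeCompl
  have hdim : (2 : WithBot ℕ∞) ≤ ringKrullDim Ap := by
    rw [IsLocalization.AtPrime.ringKrullDim_eq_height p Ap]
    exact (WithBot.coe_le_coe.mpr hp : ((2 : ℕ∞) : WithBot ℕ∞) ≤ (p.height : WithBot ℕ∞))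
  have hyp : ∀ (Q : Ideal Bp) (_ : Q.IsPrime), Q.comap (algebraMap Ap Bp) ≠ maximalIdeal Ap →
      Algebra.IsEtaleAt Ap Q := by
    intro Q hQprime hQ
    have h1 : (Q.comap (algebraMap B Bp)).comap (algebraMap A B) < p := by
      have hcc : (Q.comap (algebraMap B Bp)).comap (algebraMap A B) =
          (Q.comap (algebraMap Ap Bp)).comap (algebraMap A Ap) := by
        rw [Ideal.comap_comap, Ideal.comap_comap, ← IsScalarTower.algebraMap_eq,
          ← IsScalarTower.algebraMap_eq]
      rw [hcc]
      have hprime : (Q.comap (algebraMap Ap Bp)).IsPrime := inferInstance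
      have hle : Q.comap (algebraMap Ap Bp) ≤ maximalIdeal Ap := le_maximalIdeal hprime.ne_top
      refine lt_of_le_of_ne ?_ ?_
      · calc (Q.comap (algebraMap Ap Bp)).comap (algebraMap A Ap)
            ≤ (maximalIdeal Ap).comap (algebraMap A Ap) := Ideal.comap_mono hle
          _ = p := IsLocalization.AtPrime.under_maximalIdeal Ap p
      · intro heq
        apply hQ
        have e1 := IsLocalization.map_under p.primeCompl Ap (Q.comap (algebraMap Ap Bp))
        have e2 := IsLocalization.map_under p.primeCompl Ap (maximalIdeal Ap)
        have e3 : Ideal.under A (Q.comap (algebraMap Ap Bp)) = p := heq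
        have e4 : Ideal.under A (maximalIdeal Ap) = p :=
          IsLocalization.AtPrime.under_maximalIdeal Ap p
        rw [← e1, ← e2, e3, e4]
    have h2 : Algebra.FormallyEtale A (Localization.AtPrime (Q.comap (algebraMap B Bp))) :=
      h _ h1
    let e : Localization.AtPrime (Q.comap (algebraMap B Bp)) ≃ₐ[A] Localization.AtPrime Q :=
      (IsLocalization.localizationLocalizationAtPrimeIsoLocalization M Q).restrictScalars A
    haveI h3 : Algebra.FormallyEtale A (Localization.AtPrime Q) := Algebra.FormallyEtale.of_equiv e
    exact Algebra.FormallyEtale.localization_base p.primeCompl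
  haveI hEt : Algebra.Etale Ap Bp := purity_normal Ap Bp hdim hinj' hyp
  -- the prime of `Bp` corresponding to `q`
  have hdisj : Disjoint (M : Set B) (q : Set B) := by
    rw [Set.disjoint_left]
    rintro _ ⟨a, ha, rfl⟩ haq
    apply ha
    rw [← hqp]
    exact haq
  let Q₀ : Ideal Bp := Ideal.map (algebraMap B Bp) q
  haveI hQ₀ : Q₀.IsPrime := IsLocalization.isPrime_of_isPrime_disjoint M Bp q hq hdisj
  have hcomap : Q₀.comap (algebraMap B Bp) = q :=
    IsLocalization.under_map_of_isPrime_disjoint M Bp hq hdisj
  haveI : Algebra.FormallyEtale Bp (Localization.AtPrime Q₀) :=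
    Algebra.FormallyEtale.of_isLocalization Q₀.primeCompl
  haveI : Algebra.FormallyEtale Ap (Localization.AtPrime Q₀) :=
    Algebra.FormallyEtale.comp Ap Bp _
  haveI : Algebra.FormallyEtale A Ap := Algebra.FormallyEtale.of_isLocalization p.primeCompl
  haveI : Algebra.FormallyEtale A (Localization.AtPrime Q₀) := Algebra.FormallyEtale.comp A Ap _
  let e : Localization.AtPrime (Q₀.comap (algebraMap B Bp)) ≃ₐ[A] Localization.AtPrime Q₀ :=
    (IsLocalization.localizationLocalizationAtPrimeIsoLocalization M Q₀).restrictScalars A
  have h4 : Algebra.IsEtaleAt A (Q₀.comap (algebraMap B Bp)) :=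
    Algebra.FormallyEtale.of_equiv e.symm
  have key : ∀ (q₁ : Ideal B) [q₁.IsPrime], q₁ = q → Algebra.IsEtaleAt A q₁ →
      Algebra.IsEtaleAt A q := by
    rintro q₁ _ rfl h
    exact h
  exact key _ hcomap h4

/-- **Zariski–Nagata purity, codimension-one form**: a finite normal domain over a regular local
ring, étale at all primes lying over primes of height `≤ 1`, is étale. -/
theorem purity_of_height_comap_le_one {A B : Type u} [CommRing A] [IsRegularLocalRing A]
    [CommRing B] [IsDomain B] [IsIntegrallyClosed B] [Algebra A B] [Module.Finite A B]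
    (hinj : Function.Injective (algebraMap A B))
    (h : ∀ (q : Ideal B) [q.IsPrime], (q.comap (algebraMap A B)).height ≤ 1 →
      Algebra.IsEtaleAt A q) : Algebra.Etale A B := by
  haveI : Module.FinitePresentation A B := Module.finitePresentation_of_finite A B
  haveI : Algebra.FinitePresentation A B := inferInstance
  rw [← Algebra.etaleLocus_eq_univ_iff_etale, Set.eq_univ_iff_forall]
  suffices H : ∀ n : ℕ, ∀ (q : Ideal B) [q.IsPrime], (q.comap (algebraMap A B)).height = n →
      Algebra.IsEtaleAt A q by
    intro q
    have hfin : (q.asIdeal.comap (algebraMap A B)).height ≠ ⊤ :=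
      Ideal.height_ne_top (Ideal.IsPrime.ne_top inferInstance)
    obtain ⟨n, hn⟩ := ENat.ne_top_iff_exists.mp hfin
    exact H n q.asIdeal hn.symm
  intro n
  induction n using Nat.strong_induction_on with
  | _ n ih =>
    intro q _ hqn
    by_cases hle : (q.comap (algebraMap A B)).height ≤ 1
    · exact h q hle
    · have h2 : 2 ≤ (q.comap (algebraMap A B)).height := by
        rw [not_le] at hle
        exact Order.add_one_le_of_lt hle
      apply isEtaleAt_of_forall_lt_normal hinj (q.comap (algebraMap A B)) h2 _ q rfl
      intro q' _ hlt
      have hlt' : (q'.comap (algebraMap A B)).height < (q.comap (algebraMap A B)).height :=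
        Ideal.height_strict_mono_of_isPrime hlt
      have hfin : (q'.comap (algebraMap A B)).height ≠ ⊤ :=
        Ideal.height_ne_top (Ideal.IsPrime.ne_top inferInstance)
      obtain ⟨m, hm⟩ := ENat.ne_top_iff_exists.mp hfin
      apply ih m _ q' hm.symm
      rw [hqn, ← hm] at hlt'
      exact_mod_cast hlt'

/-- **Zariski–Nagata purity, codimension-one form**: a finite normal domain over a regular local
ring, étale at all its primes of height `≤ 1`, is étale. -/
theorem purity_codim_one {A B : Type u} [CommRing A] [IsRegularLocalRing A]
    [CommRing B] [IsDomain B] [IsIntegrallyClosed B] [Algebra A B] [Module.Finite A B]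
    (hinj : Function.Injective (algebraMap A B))
    (h : ∀ (q : Ideal B) [q.IsPrime], q.height ≤ 1 → Algebra.IsEtaleAt A q) :
    Algebra.Etale A B :=
  purity_of_height_comap_le_one hinj (fun q _ hq => h q (le_trans
    (Groth.Agent.Lib.Helper29.height_le_height_comap_of_isIntegral (algebraMap A B)
      (fun x => Algebra.IsIntegral.isIntegral x) q) hq))

end Groth.Agent.Lib.Helper29.Purity
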